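import Cfsg.Agent.Lib.Known.ChevAut.Exps
import Cfsg.Agent.Lib.Lie.Chev.All

/-!
# The seven types
-/

set_option autoImplicit false

namespace CfsgLib.Known.ChevAut

open Cfsg.Lie
open CfsgLib.Lie.Chev
open Cfsg

theorem perm_F4 : ∀ π : Equiv.Perm (Fin chevF4.rank),
    (∀ i j : Fin chevF4.rank, i ≠ j → chevF4.bonds (π i) (π j) = chevF4.bonds i j) →
      π = 1 ∨ ∀ i : Fin chevF4.rank, (π i : ℕ) = 3 - (i : ℕ) := by
  decide +kernel

theorem perm_two {n : ℕ} (hn : n = 2) (π : Equiv.Perm (Fin n)) : π = 1 ∨ ∀ i : Fin n, (π i : ℕ) = 1 - (i : ℕ) := by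
  subst hn; revert π; decide +kernel

theorem cartan_B2 : chevB2.cartan 1 (chevB2.simple 0) = -1 ∧ chevB2.cartan 0 (chevB2.simple 1) = -2 ∧
    chevB2.isLong (chevB2.simple 0) = false ∧ chevB2.isLong (chevB2.simple 1) = true := by decide +kernel

theorem cartan_G2 : chevG2.cartan 1 (chevG2.simple 0) = -1 ∧ chevG2.cartan 0 (chevG2.simple 1) = -3 ∧
    chevG2.isLong (chevG2.simple 0) = false ∧ chevG2.isLong (chevG2.simple 1) = true := by decide +kernel

theorem cartan_F4 : chevF4.cartan 1 (chevF4.simple 0) = -1 ∧ chevF4.cartan 2 (chevF4.simple 3) = -1 ∧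
    chevF4.cartan 2 (chevF4.simple 1) = -1 ∧ chevF4.cartan 1 (chevF4.simple 2) = -2 ∧
    chevF4.cartan 3 (chevF4.simple 2) = -1 ∧ chevF4.cartan 0 (chevF4.simple 1) = -1 ∧
    chevF4.isLong (chevF4.simple 0) = false ∧ chevF4.isLong (chevF4.simple 1) = false ∧
    chevF4.isLong (chevF4.simple 2) = true ∧ chevF4.isLong (chevF4.simple 3) = true := by decide +kernel

theorem comm_G2 :
    chevG2.commTerms (chevG2.simple 1) (auxG2.w 1 (auxG2.w 0 (chevG2.simple 1))) = [] ∧
    chevG2.commTerms (chevG2.simple 0) (auxG2.w 0 (auxG2.w 1 (chevG2.simple 0))) = [(10, 3, 1, 1)] ∧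
    auxG2.w 1 (auxG2.w 0 (chevG2.simple 1)) ≠ chevG2.simple 1 ∧
    auxG2.w 1 (auxG2.w 0 (chevG2.simple 1)) ≠ chevG2.neg (chevG2.simple 1) ∧
    auxG2.w 0 (auxG2.w 1 (chevG2.simple 0)) ≠ chevG2.simple 0 ∧
    auxG2.w 0 (auxG2.w 1 (chevG2.simple 0)) ≠ chevG2.neg (chevG2.simple 0) := by decide +kernel

variable {F : Type*} [Field F]

/-- there is no exceptional automorphism of `G₂(2)` -/
theorem not_swap_G2_two (hF : ∀ t : F, t = 0 ∨ t = 1) {φ : MulAut ↥(chevG2.group F)}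
    {π : Equiv.Perm (Fin chevG2.rank)} {σ : Fin chevG2.rank → F ≃+* F}
    (h : Std (chevRel certG2 F) φ π σ) (hπ : ∀ i : Fin chevG2.rank, (π i : ℕ) = 1 - (i : ℕ)) : False := by
  obtain ⟨R, hR⟩ : ∃ R, R = chevRel certG2 F := ⟨_, rfl⟩
  rw [← hR] at h
  have one_of : ∀ t : F, t ≠ 0 → t = 1 := fun t ht => (hF t).resolve_left ht
  have hconj : ∀ i j k : Fin chevG2.rank,
      R.ne (chevG2.simple i) 1 * R.ne (chevG2.simple j) 1 * R.xe (chevG2.simple k) 1 *
        (R.ne (chevG2.simple i) 1 * R.ne (chevG2.simple j) 1)⁻¹ = R.xe (auxG2.w i (auxG2.w j (chevG2.simple k))) 1 := by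
    intro i j k
    have hm := R.isMon_mul (R.isMon_ne_simple i one_ne_zero) (R.isMon_ne_simple j (one_ne_zero (α := F)))
    have h1 := (hm (R.sroot k)).2.2.2 1
    rw [one_of _ (hm (R.sroot k)).1, one_mul, Equiv.Perm.mul_apply, R.wperm_apply, R.wperm_apply] at h1
    exact h1
  obtain ⟨i0, h0⟩ : ∃ i : Fin chevG2.rank, (i : ℕ) = 0 := ⟨⟨0, by decide⟩, rfl⟩
  obtain ⟨i1, h1⟩ : ∃ i : Fin chevG2.rank, (i : ℕ) = 1 := ⟨⟨1, by decide⟩, rfl⟩
  have p0 : π i0 = i1 := Fin.ext (by rw [hπ, h0, h1])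
  have p1 : π i1 = i0 := Fin.ext (by rw [hπ, h0, h1])
  obtain ⟨e1, e2, d1, d2, d3, d4⟩ := comm_G2
  have hw : ∀ a b : ℕ, a < chevG2.rank → b < chevG2.rank → ∀ c : ℕ, c < chevG2.rank →
      auxG2.w a (auxG2.w b (chevG2.simple c)) < chevG2.nroots :=
    fun a b ha hb c hc => certG2.w_lt ha (certG2.w_lt hb (certG2.simple_lt hc))
  have hA := R.xe_comm _ _ 1 1 (certG2.simple_lt (i := 1) (by decide))
    (hw 1 0 (by decide) (by decide) 1 (by decide)) d1 d2
  rw [ChevalleyDatum.commWord, e1, List.map_nil, List.map_nil, List.prod_nil, mul_one] at hA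
  have hB := R.xe_comm _ _ 1 1 (certG2.simple_lt (i := 0) (by decide))
    (hw 0 1 (by decide) (by decide) 0 (by decide)) d3 d4
  have hc := congrArg φ hA
  have hu := hconj i1 i0 i1
  rw [h0, h1] at hu
  rw [← hu, ← h1] at hc
  simp only [map_mul, map_inv] at hc
  rw [(h i1 _).1, ← h0, h.map_ne, h.map_ne, map_one, map_one, p0, p1, hconj i0 i1 i0, h0, h1, hB] at hc
  rw [mul_eq_left, ChevalleyDatum.commWord, e2] at hc
  simp only [List.map_cons, List.map_nil, List.prod_cons, List.prod_nil, mul_one, pow_one] at hc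
  rw [show ((3 : ℤ) : F) * -1 = 1 from one_of _ fun e => by
    have h3 : (3 : F) = 0 := by push_cast at e; linear_combination -e
    have h2 : (2 : F) = 0 := by
      rcases hF 2 with h | h
      · exact h
      · exact absurd (show (1 : F) = 0 by linear_combination h) one_ne_zero
    exact one_ne_zero (show (1 : F) = 0 by linear_combination h3 - h2)] at hc
  rw [← R.xe_zero 10] at hc
  exact one_ne_zero (R.xe_inj_param (r := ⟨10, by decide⟩) hc)

theorem uniform_G2 {φ : MulAut ↥(chevG2.group F)} {π : Equiv.Perm (Fin chevG2.rank)}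
    {σ : Fin chevG2.rank → F ≃+* F} (h : Std (chevRel certG2 F) φ π σ) : Uniform π σ := by
  rcases perm_two (show chevG2.rank = 2 by decide +kernel) π with rfl | hπ
  · exact h.uniform_id rfl (connected_of_mem (by simp)) (by decide) (by decide +kernel)
  obtain ⟨c1, c2, l0, l1⟩ := cartan_G2
  obtain ⟨i0, h0⟩ : ∃ i : Fin chevG2.rank, (i : ℕ) = 0 := ⟨⟨0, by decide⟩, rfl⟩
  obtain ⟨i1, h1⟩ : ∃ i : Fin chevG2.rank, (i : ℕ) = 1 := ⟨⟨1, by decide⟩, rfl⟩
  have p0 : π i0 = i1 := Fin.ext (by rw [hπ, h0, h1])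
  have p1 : π i1 = i0 := Fin.ext (by rw [hπ, h0, h1])
  have hs : ∀ t, σ i0 t = σ i1 t ^ 3 := fun t => h.sigma_pow (k := i1) (j := i0) (by omega)
    (by rw [h0, h1]; exact c1) (by rw [p0, p1, h0, h1, c2]; rfl) t
  rcases forall_zero_or_one_of_cube ⟨_, _, hs⟩ with h3 | hF
  · refine ⟨σ i1, fun i t => ?_⟩
    have hr := ringChar_eq_of_cast Nat.prime_three (by exact_mod_cast h3)
    rcases (show (i : ℕ) = 0 ∨ (i : ℕ) = 1 by
      have := i.2; simp only [show chevG2.rank = 2 by decide +kernel] at this; omega) with hi | hi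
    · obtain rfl : i = i0 := Fin.ext (hi.trans h0.symm)
      rw [ChevalleyDatum.graphExp, hπ, h0, l0, l1, hr]
      exact hs t
    · obtain rfl : i = i1 := Fin.ext (hi.trans h1.symm)
      rw [ChevalleyDatum.graphExp, hπ, h1, l0, l1]
      simp
  · exact (not_swap_G2_two hF h hπ).elim

theorem uniform_B2 {φ : MulAut ↥(chevB2.group F)} {π : Equiv.Perm (Fin chevB2.rank)}
    {σ : Fin chevB2.rank → F ≃+* F} (h : Std (chevRel certB2 F) φ π σ) : Uniform π σ := by
  rcases perm_two (show chevB2.rank = 2 by decide +kernel) π with rfl | hπ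
  · exact h.uniform_id rfl (connected_of_mem (by simp)) (by decide) (by decide +kernel)
  obtain ⟨c1, c2, l0, l1⟩ := cartan_B2
  obtain ⟨i0, h0⟩ : ∃ i : Fin chevB2.rank, (i : ℕ) = 0 := ⟨⟨0, by decide⟩, rfl⟩
  obtain ⟨i1, h1⟩ : ∃ i : Fin chevB2.rank, (i : ℕ) = 1 := ⟨⟨1, by decide⟩, rfl⟩
  have hs : ∀ t, σ i0 t = σ i1 t ^ 2 := fun t => h.sigma_pow (k := i1) (j := i0) (by omega)
    (by rw [h0, h1]; exact c1) (by rw [hπ, hπ, h0, h1, c2]; rfl) t
  refine ⟨σ i1, fun i t => ?_⟩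
  have hr := ringChar_eq_of_cast Nat.prime_two (by exact_mod_cast two_eq_zero_of_sq _ _ hs)
  rcases (show (i : ℕ) = 0 ∨ (i : ℕ) = 1 by
    have := i.2; simp only [show chevB2.rank = 2 by decide +kernel] at this; omega) with hi | hi
  · obtain rfl : i = i0 := Fin.ext (hi.trans h0.symm)
    rw [ChevalleyDatum.graphExp, hπ, h0, l0, l1, hr]
    exact hs t
  · obtain rfl : i = i1 := Fin.ext (hi.trans h1.symm)
    rw [ChevalleyDatum.graphExp, hπ, h1, l0, l1]
    simp

theorem uniform_F4 {φ : MulAut ↥(chevF4.group F)} {π : Equiv.Perm (Fin chevF4.rank)}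
    {σ : Fin chevF4.rank → F ≃+* F} (h : Std (chevRel certF4 F) φ π σ) (hsym : chevF4.IsDiagramSymmetry π) :
    Uniform π σ := by
  rcases perm_F4 π hsym with rfl | hπ
  · exact h.uniform_id rfl (connected_of_mem (by simp)) (by decide) (by decide +kernel)
  obtain ⟨a, b, c, d, e, f, l0, l1, l2, l3⟩ := cartan_F4
  obtain ⟨i0, h0⟩ : ∃ i : Fin chevF4.rank, (i : ℕ) = 0 := ⟨⟨0, by decide⟩, rfl⟩
  obtain ⟨i1, h1⟩ : ∃ i : Fin chevF4.rank, (i : ℕ) = 1 := ⟨⟨1, by decide⟩, rfl⟩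
  obtain ⟨i2, h2⟩ : ∃ i : Fin chevF4.rank, (i : ℕ) = 2 := ⟨⟨2, by decide⟩, rfl⟩
  obtain ⟨i3, h3⟩ : ∃ i : Fin chevF4.rank, (i : ℕ) = 3 := ⟨⟨3, by decide⟩, rfl⟩
  have s01 : σ i1 = σ i0 := h.sigma_eq (by rw [h0, h1]; exact a) (by rw [hπ, hπ, h0, h1]; exact b)
  have s23 : σ i3 = σ i2 := h.sigma_eq (by rw [h2, h3]; exact e) (by rw [hπ, hπ, h2, h3]; exact f)
  have s12 : ∀ t, σ i1 t = σ i2 t ^ 2 := fun t => h.sigma_pow (k := i2) (j := i1) (by omega)
    (by rw [h1, h2]; exact c) (by rw [hπ, hπ, h1, h2, d]; rfl) t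
  have hr := ringChar_eq_of_cast Nat.prime_two (by exact_mod_cast two_eq_zero_of_sq _ _ s12)
  refine ⟨σ i3, fun i t => ?_⟩
  rcases (show (i : ℕ) = 0 ∨ (i : ℕ) = 1 ∨ (i : ℕ) = 2 ∨ (i : ℕ) = 3 by
    have := i.2; simp only [show chevF4.rank = 4 by decide +kernel] at this; omega) with hi | hi | hi | hi
  · obtain rfl : i = i0 := Fin.ext (hi.trans h0.symm)
    rw [ChevalleyDatum.graphExp, hπ, h0, l0, l3, hr, s23, ← s01]
    exact s12 t
  · obtain rfl : i = i1 := Fin.ext (hi.trans h1.symm)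
    rw [ChevalleyDatum.graphExp, hπ, h1, l1, l2, hr, s23]
    exact s12 t
  · obtain rfl : i = i2 := Fin.ext (hi.trans h2.symm)
    rw [ChevalleyDatum.graphExp, hπ, h2, l1, l2, s23]
    simp
  · obtain rfl : i = i3 := Fin.ext (hi.trans h3.symm)
    rw [ChevalleyDatum.graphExp, hπ, h3, l0, l3]
    simp

/-- every automorphism is inner times diagonal times a map `x_{±i}(t) ↦ x_{±π i}(τ(t)^e)` -/
def Decomposes (D : ChevalleyDatum) {X : Aux} (C : Cert D X) (F : Type*) [Field F] : Prop :=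
  (∀ (φ : MulAut ↥(D.group F)) (π : Equiv.Perm (Fin D.rank)) (σ : Fin D.rank → F ≃+* F),
    Std (chevRel C F) φ π σ → D.IsDiagramSymmetry π ∧ Uniform π σ) ∧
  chkSimple D X = true ∧ ChevDiag.chkSteps D = true

theorem decomposes_G2 [Finite F] : Decomposes chevG2 certG2 F :=
  ⟨fun _ _ _ h => ⟨by
    have : Finite ↥(chevG2.group F) := (chevRel certG2 F).Finite_of_field
    exact h.isDiagramSymmetry (by decide +kernel), uniform_G2 h⟩, by decide +kernel, ChevDiag.stepsG2⟩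

theorem decomposes_B2 [Finite F] : Decomposes chevB2 certB2 F :=
  ⟨fun _ _ _ h => ⟨by
    have : Finite ↥(chevB2.group F) := (chevRel certB2 F).Finite_of_field
    exact h.isDiagramSymmetry (by decide +kernel), uniform_B2 h⟩, by decide +kernel, ChevDiag.stepsB2⟩

theorem decomposes_F4 [Finite F] : Decomposes chevF4 certF4 F :=
  ⟨fun _ π _ h => by
    have : Finite ↥(chevF4.group F) := (chevRel certF4 F).Finite_of_field
    have hs : chevF4.IsDiagramSymmetry π := h.isDiagramSymmetry (by decide +kernel)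
    exact ⟨hs, uniform_F4 h hs⟩, by decide +kernel, ChevDiag.stepsF4⟩

theorem decomposes_laced [Finite F] {D : ChevalleyDatum} {X : Aux} (C : Cert D X) (hb : chkBond D X = true)
    (hA : chkAdj D = true) (hL : chkLaced D = true) (hs : chkSimple D X = true)
    (hS : ChevDiag.chkSteps D = true) (hc : Rel.Connected D) : Decomposes D C F :=
  ⟨fun _ π _ h => by
    have : Finite ↥(D.group F) := (chevRel C F).Finite_of_field
    have hsym : D.IsDiagramSymmetry π := h.isDiagramSymmetry hb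
    exact ⟨hsym, h.uniform_laced hsym hc C.rank_pos hA hL⟩, hs, hS⟩

theorem decomposes_D4 [Finite F] : Decomposes chevD4 certD4 F :=
  decomposes_laced certD4 (by decide +kernel) (by decide +kernel) (by decide +kernel) (by decide +kernel)
    ChevDiag.stepsD4 (connected_of_mem (by simp))

theorem decomposes_E6 [Finite F] : Decomposes chevE6 certE6 F :=
  decomposes_laced certE6 (by decide +kernel) (by decide +kernel) (by decide +kernel) (by decide +kernel)
    ChevDiag.stepsE6 (connected_of_mem (by simp))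

theorem decomposes_E7 [Finite F] : Decomposes chevE7 certE7 F :=
  decomposes_laced certE7 (by decide +kernel) (by decide +kernel) (by decide +kernel) (by decide +kernel)
    ChevDiag.stepsE7 (connected_of_mem (by simp))

theorem decomposes_E8 [Finite F] : Decomposes chevE8 certE8 F :=
  decomposes_laced certE8 (by decide +kernel) (by decide +kernel) (by decide +kernel) (by decide +kernel)
    ChevDiag.stepsE8 (connected_of_mem (by simp))

theorem exists_decomposes [Finite F] {D : ChevalleyDatum}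
    (hD : D ∈ [chevG2, chevB2, chevD4, chevF4, chevE6, chevE7, chevE8]) :
    ∃ (X : Aux) (C : Cert D X), Decomposes D C F := by
  simp only [List.mem_cons, List.not_mem_nil, or_false] at hD
  rcases hD with rfl | rfl | rfl | rfl | rfl | rfl | rfl
  exacts [⟨_, _, decomposes_G2⟩, ⟨_, _, decomposes_B2⟩, ⟨_, _, decomposes_D4⟩, ⟨_, _, decomposes_F4⟩,
    ⟨_, _, decomposes_E6⟩, ⟨_, _, decomposes_E7⟩, ⟨_, _, decomposes_E8⟩]

end CfsgLib.Known.ChevAut
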