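import Cfsg.Agent.Lib.Lie.Rel.Bruhat
import Cfsg.Agent.Lib.Lie.Rel.Parabolic
import Cfsg.Agent.Lib.Lie.Rel.Weyl
import Cfsg.Agent.Lib.Lie.Rel.SL2
import Mathlib.GroupTheory.Sylow

/-!
# An automorphism fixing `U` can be corrected to fix `U⁻`, and then it permutes the simple root subgroups
-/

set_option autoImplicit false

namespace CfsgLib.Known.ChevAut

open Cfsg.Lie (ChevalleyDatum)
open CfsgLib.Lie.Chev
open CfsgLib.Lie

/-- combinatorial facts on simple roots -/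
def chkSimple (D : ChevalleyDatum) (X : Aux) : Bool :=
  (List.range D.rank).all (fun i => (List.range D.rank).all fun j =>
    Nat.beq i j || (D.commTerms (D.neg (D.simple j)) (D.simple i)).isEmpty) &&
  (List.range D.nroots).all (fun r => (List.range D.rank).all fun i =>
    !(Nat.ble (half D) r) || Nat.beq r (D.simple i) ||
      (List.range D.rank).any fun j => !(Nat.beq j i) && decide (X.coef j r ≠ 0))

theorem chkSimple_spec {D : ChevalleyDatum} {X : Aux} (h : chkSimple D X = true) :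
    (∀ i j, i < D.rank → j < D.rank → i ≠ j → D.commTerms (D.neg (D.simple j)) (D.simple i) = []) ∧
    ∀ r i, r < D.nroots → i < D.rank → half D ≤ r → (∀ j, j < D.rank → j ≠ i → X.coef j r = 0) →
      r = D.simple i := by
  simp only [chkSimple, Bool.and_eq_true, List.all_eq_true, List.mem_range, Bool.or_eq_true, nat_beq_iff,
    List.isEmpty_iff, Bool.not_eq_true', List.any_eq_true, decide_eq_true_iff] at h
  refine ⟨fun i j hi hj hne => (h.1 i hi j hj).resolve_left hne, fun r i hr hi hp h0 => ?_⟩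
  rcases h.2 r hr i hi with (h1 | h1) | ⟨j, hj, hji, hc⟩
  · rw [← Bool.not_eq_true, nat_ble_iff] at h1; exact absurd hp h1
  · exact h1
  · rw [← Bool.not_eq_true, nat_beq_iff] at hji
    exact absurd (h0 j hj hji) hc

variable {D : ChevalleyDatum} {X : Aux} {F : Type*} [Field F] {G : Type*} [Group G] (R : Rel D X F G)

/-- root subgroup -/
def XS (r : ℕ) : Subgroup G where
  carrier := {g | ∃ t, g = R.xe r t}
  one_mem' := ⟨0, (R.xe_zero r).symm⟩
  mul_mem' := by rintro _ _ ⟨t, rfl⟩ ⟨u, rfl⟩; exact ⟨t + u, R.xe_add' r t u⟩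
  inv_mem' := by rintro _ ⟨t, rfl⟩; exact ⟨-t, (R.xe_neg r t).symm⟩

include R in
theorem radSet_empty : radSet D X (∅ : Set ℕ) = posSet D := by
  refine Set.Subset.antisymm (fun r hr => hr.1) fun r hr => ⟨hr, fun h => ?_⟩
  obtain ⟨j, hj⟩ := R.exists_coef_ne_zero r
  exact hj (h j j.2 (Set.notMem_empty _))

theorem mem_BS_of_normalises {g : G} (h : ∀ x, x ∈ R.UP ↔ g * x * g⁻¹ ∈ R.UP) : g ∈ R.BS := by
  obtain ⟨b, hb, n, u, hu, rfl⟩ := R.exists_bnu g
  have hu' : u ∈ R.BS := R.UP_le_BS (R.US_mono (Rel.invSet_subset _) hu)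
  have hg : b * (n : G) * u ∈ Subgroup.normalizer (R.UP : Set G) := Subgroup.mem_normalizer_iff.2 h
  have hn : (n : G) ∈ Subgroup.normalizer (R.UR (∅ : Set ℕ) : Set G) := by
    rw [Rel.UR, radSet_empty R]
    have h1 := mul_mem (mul_mem (inv_mem (R.BS_le_normalizer_UP hb)) hg) (inv_mem (R.BS_le_normalizer_UP hu'))
    rwa [← mul_assoc, ← mul_assoc, inv_mul_cancel, one_mul, mul_inv_cancel_right] at h1
  have hPJ : R.PJ (∅ : Set ℕ) ≤ R.BS := sup_le le_rfl ((Subgroup.closure_le _).2 (by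
    rintro _ ⟨i, hi, -⟩
    exact absurd hi (Set.notMem_empty _)))
  exact mul_mem (mul_mem hb (hPJ (R.NS_normalizer_le (∅ : Set ℕ) n hn))) hu'

/-- the opposition element -/
noncomputable def n0 : R.NS := R.exists_opp.choose

theorem n0_spec : (∀ u, u ∈ R.UP → (n0 R : G) * u * (n0 R : G)⁻¹ ∈ R.UN) ∧
    (∀ u, u ∈ R.UN → (n0 R : G) * u * (n0 R : G)⁻¹ ∈ R.UP) := R.exists_opp.choose_spec

variable [Finite G]

theorem map_conj_UP : R.UP.map (MulAut.conj (n0 R : G)).toMonoidHom = R.UN := by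
  refine Subgroup.eq_of_le_of_card_ge (by rintro _ ⟨u, hu, rfl⟩; exact (n0_spec R).1 u hu) ?_
  rw [← Nat.card_congr (R.UP.equivMapOfInjective _ (MulAut.conj (n0 R : G)).injective).toEquiv]
  exact Subgroup.card_le_of_le (show R.UN.map (MulAut.conj (n0 R : G)).toMonoidHom ≤ R.UP by
    rintro _ ⟨u, hu, rfl⟩; exact (n0_spec R).2 u hu) |>.trans' (le_of_eq
      (Nat.card_congr (R.UN.equivMapOfInjective _ (MulAut.conj (n0 R : G)).injective).toEquiv))

theorem map_conj_UN : R.UN.map (MulAut.conj (n0 R : G)).toMonoidHom = R.UP := by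
  refine Subgroup.eq_of_le_of_card_ge (by rintro _ ⟨u, hu, rfl⟩; exact (n0_spec R).2 u hu) ?_
  rw [← Nat.card_congr (R.UN.equivMapOfInjective _ (MulAut.conj (n0 R : G)).injective).toEquiv,
    ← map_conj_UP R, ← Nat.card_congr (R.UP.equivMapOfInjective _ (MulAut.conj (n0 R : G)).injective).toEquiv]

theorem UP_inf_UN {g : G} (h1 : g ∈ R.UP) (h2 : g ∈ R.UN) : g = 1 := R.BS_inf_UN (R.UP_le_BS h1) h2

theorem exists_fix_opp (φ : MulAut G) (hU : R.UP.map φ.toMonoidHom = R.UP) :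
    ∃ u : G, R.UP.map (MulAut.conj u * φ).toMonoidHom = R.UP ∧
      R.UN.map (MulAut.conj u * φ).toMonoidHom = R.UN := by
  obtain ⟨b, hb, n, v, hv, e⟩ := R.exists_bnu (φ (n0 R : G))
  have hvP : v ∈ R.UP := R.US_mono (Rel.invSet_subset _) hv
  have himg : ∀ x ∈ R.UP, b * ((n : G) * x * (n : G)⁻¹) * b⁻¹ ∈ R.UN.map φ.toMonoidHom := by
    intro x hx
    obtain ⟨y, hy, hxy⟩ : v⁻¹ * x * v ∈ R.UP.map φ.toMonoidHom := by
      rw [hU]; exact mul_mem (mul_mem (inv_mem hvP) hx) hvP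
    replace hxy : φ y = v⁻¹ * x * v := hxy
    refine ⟨(n0 R : G) * y * (n0 R : G)⁻¹, (n0_spec R).1 y hy, ?_⟩
    show φ _ = _
    rw [map_mul, map_mul, map_inv, e, hxy]
    group
  have hkeep : ∀ r : Fin D.nroots, half D ≤ (r : ℕ) → ¬ half D ≤ (R.nsPerm n r : ℕ) := by
    intro r hr hpos
    obtain ⟨a, ha⟩ := R.isMon_nsPerm n
    obtain ⟨w, hw, hw'⟩ := himg _ (R.xe_mem_US (S := posSet D) hr 1)
    replace hw' : φ w = b * ((n : G) * R.xe r 1 * (n : G)⁻¹) * b⁻¹ := hw'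
    rw [(ha r).2.2.2 1, mul_one] at hw'
    have h1 : φ w ∈ R.UP.map φ.toMonoidHom := by
      rw [hU, hw']
      exact (Subgroup.mem_normalizer_iff.1 (R.BS_le_normalizer_UP hb) _).1 (R.xe_mem_US (S := posSet D) hpos _)
    obtain ⟨w', hw'', e'⟩ := h1
    rw [φ.injective e'] at hw''
    rw [UP_inf_UN R hw'' hw, map_one, eq_comm, mul_inv_eq_one, mul_eq_left, ← R.xe_zero (R.nsPerm n r : ℕ)] at hw'
    exact (ha r).1 (R.xe_inj_param hw')
  obtain ⟨a, ha⟩ := R.isMon_nsPerm n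
  have hle : R.UP.map (MulAut.conj (n : G)).toMonoidHom ≤ R.UN := by
    rintro _ ⟨u, hu, rfl⟩
    exact Rel.IsMon.conj_mem_US R ha (T := negSet D) (fun r hr => hkeep r hr) hu
  have heq : R.UP.map (MulAut.conj (n : G)).toMonoidHom = R.UN := Subgroup.eq_of_le_of_card_ge hle (by
    rw [← map_conj_UP R, ← Nat.card_congr (R.UP.equivMapOfInjective _ (MulAut.conj (n0 R : G)).injective).toEquiv,
      ← Nat.card_congr (R.UP.equivMapOfInjective _ (MulAut.conj (n : G)).injective).toEquiv])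
  obtain ⟨u, hu, h, hh, rfl⟩ := R.exists_of_mem_BS hb
  have h1 : R.UP.map (MulAut.conj u⁻¹ * φ).toMonoidHom = R.UP := by
    refine Subgroup.eq_of_le_of_card_ge ?_ (by
      rw [← Nat.card_congr (R.UP.equivMapOfInjective _ (MulAut.conj u⁻¹ * φ).injective).toEquiv])
    rintro _ ⟨x, hx, rfl⟩
    show u⁻¹ * φ x * u⁻¹⁻¹ ∈ R.UP
    rw [inv_inv]
    exact mul_mem (mul_mem (inv_mem hu) (hU.le ⟨x, hx, rfl⟩)) hu
  refine ⟨u⁻¹, h1, (Subgroup.eq_of_le_of_card_ge (fun y hy => ?_) (by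
    rw [← Nat.card_congr (R.UN.equivMapOfInjective _ (MulAut.conj u⁻¹ * φ).injective).toEquiv])).symm⟩
  have hy' : h⁻¹ * y * h ∈ R.UN := by
    have := (Subgroup.mem_normalizer_iff.1 (R.HS_le_normalizer_US (negSet D) (inv_mem hh)) y).1 hy
    rwa [inv_inv] at this
  obtain ⟨x, hx, ex⟩ : h⁻¹ * y * h ∈ R.UP.map (MulAut.conj (n : G)).toMonoidHom := by rw [heq]; exact hy'
  obtain ⟨z, hz, hz'⟩ := himg x hx
  refine ⟨z, hz, ?_⟩
  show u⁻¹ * φ z * u⁻¹⁻¹ = y
  replace ex : (n : G) * x * (n : G)⁻¹ = h⁻¹ * y * h := ex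
  replace hz' : φ z = u * h * ((n : G) * x * (n : G)⁻¹) * (u * h)⁻¹ := hz'
  rw [hz', ex]
  group

theorem mem_BS_iff_map {φ : MulAut G} (hU : R.UP.map φ.toMonoidHom = R.UP) {g : G} (hg : g ∈ R.BS) :
    φ g ∈ R.BS := by
  refine mem_BS_of_normalises R fun x => ?_
  have hN := Subgroup.mem_normalizer_iff.1 (R.BS_le_normalizer_UP hg)
  constructor
  · intro hx
    obtain ⟨y, hy, rfl⟩ : x ∈ R.UP.map φ.toMonoidHom := hU.symm ▸ hx
    exact hU.le ⟨g * y * g⁻¹, (hN y).1 hy, by show φ (g * y * g⁻¹) = _; simp⟩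
  · intro hx
    obtain ⟨y, hy, e⟩ : φ g * x * (φ g)⁻¹ ∈ R.UP.map φ.toMonoidHom := hU.symm ▸ hx
    replace e : φ y = φ g * x * (φ g)⁻¹ := e
    refine hU.le ⟨g⁻¹ * y * g, (hN _).2 (by simpa [mul_assoc] using hy), ?_⟩
    show φ (g⁻¹ * y * g) = x
    rw [map_mul, map_mul, map_inv, e]; group

theorem map_BS {φ : MulAut G} (hU : R.UP.map φ.toMonoidHom = R.UP) : R.BS.map φ.toMonoidHom = R.BS :=
  Subgroup.eq_of_le_of_card_ge (by rintro _ ⟨g, hg, rfl⟩; exact mem_BS_iff_map R hU hg)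
    (by rw [← Nat.card_congr (R.BS.equivMapOfInjective _ φ.injective).toEquiv])

/-- an element normalising `U` and `U⁻` lies in the torus -/
theorem mem_HS_of_normalises {g : G} (h1 : ∀ x, x ∈ R.UP ↔ g * x * g⁻¹ ∈ R.UP)
    (h2 : ∀ x, x ∈ R.UN ↔ g * x * g⁻¹ ∈ R.UN) : g ∈ R.HS := by
  refine R.BS_inf_UN_HS (mem_BS_of_normalises R h1) ?_
  have h3 : (n0 R : G) * g * (n0 R : G)⁻¹ ∈ R.BS := by
    refine mem_BS_of_normalises R fun x => ?_
    have key : ∀ x, x ∈ R.UP ↔ (n0 R : G)⁻¹ * x * (n0 R : G) ∈ R.UN := fun x => by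
      constructor
      · intro hx
        obtain ⟨y, hy, rfl⟩ : x ∈ R.UN.map (MulAut.conj (n0 R : G)).toMonoidHom := (map_conj_UN R).symm ▸ hx
        simpa [mul_assoc] using hy
      · intro hx
        have := (n0_spec R).2 _ hx
        simpa [mul_assoc] using this
    rw [key, h2, key]
    simp [mul_assoc]
  obtain ⟨u, hu, h, hh, e⟩ := R.exists_of_mem_BS h3
  have e' : g = ((n0 R : G)⁻¹ * u * (n0 R : G)) * ((n0 R : G)⁻¹ * h * (n0 R : G)) := by
    rw [show g = (n0 R : G)⁻¹ * (u * h) * (n0 R : G) by rw [← e]; group]; group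
  rw [e']
  refine Subgroup.mul_mem_sup ?_ ?_
  · obtain ⟨y, hy, rfl⟩ : u ∈ R.UN.map (MulAut.conj (n0 R : G)).toMonoidHom := (map_conj_UN R).symm ▸ hu
    simpa [mul_assoc] using hy
  · simpa using R.HS_conj (inv_mem (n0 R).2) hh

theorem map_HS {φ : MulAut G} (hU : R.UP.map φ.toMonoidHom = R.UP) (hV : R.UN.map φ.toMonoidHom = R.UN)
    {h : G} (hh : h ∈ R.HS) : φ h ∈ R.HS := by
  have key : ∀ (S : Set (Fin D.nroots)), (R.US S).map φ.toMonoidHom = R.US S →
      ∀ x, x ∈ R.US S ↔ φ h * x * (φ h)⁻¹ ∈ R.US S := by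
    intro S hS x
    have hN := Subgroup.mem_normalizer_iff.1 (R.HS_le_normalizer_US S hh)
    constructor
    · intro hx
      obtain ⟨y, hy, rfl⟩ : x ∈ (R.US S).map φ.toMonoidHom := hS.symm ▸ hx
      exact hS.le ⟨h * y * h⁻¹, (hN y).1 hy, by show φ (h * y * h⁻¹) = _; simp⟩
    · intro hx
      obtain ⟨y, hy, e⟩ : φ h * x * (φ h)⁻¹ ∈ (R.US S).map φ.toMonoidHom := hS.symm ▸ hx
      replace e : φ y = φ h * x * (φ h)⁻¹ := e
      refine hS.le ⟨h⁻¹ * y * h, (hN _).2 (by simpa [mul_assoc] using hy), ?_⟩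
      show φ (h⁻¹ * y * h) = x
      rw [map_mul, map_mul, map_inv, e]; group
  exact mem_HS_of_normalises R (key _ hU) (key _ hV)

/-- rank one parabolic -/
abbrev P1 (i : Fin D.rank) : Subgroup G := R.bnPair.parabolic {R.ne (D.simple i) 1}

theorem P1_inf_UN (i : Fin D.rank) : P1 R i ⊓ R.UN = XS R (D.neg (D.simple i)) := by
  have hJ : ({R.ne (D.simple i) 1} : Set G) ⊆ R.bnPair.S := Set.singleton_subset_iff.2 ⟨i, rfl⟩
  have hB : R.BS ≤ P1 R i := le_sup_left
  have hn : R.ne (D.simple i) 1 ∈ P1 R i := Subgroup.mem_sup_right (Subgroup.subset_closure rfl)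
  have hsq : ∀ t, R.ne (D.simple i) 1 * R.xe (D.simple i) t * (R.ne (D.simple i) 1)⁻¹ ∈ P1 R i := fun t =>
    mul_mem (mul_mem hn (hB (R.xe_pos_mem_BS (R.sroot_pos i) t))) (inv_mem hn)
  refine le_antisymm (fun g hg => ?_) ?_
  · obtain ⟨h1, h2⟩ := Subgroup.mem_inf.1 hg
    let s : R.bnPair.S := ⟨R.ne (D.simple i) 1, i, rfl⟩
    rw [P1, BN.parabolic_eq_cellUnion R.bnPair hJ] at h1
    obtain ⟨w, hw, hgw⟩ := h1
    have hw2 : w = 1 ∨ w = BN.wgen R.bnPair s := by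
      have hidx : BN.idxSet R.bnPair ({R.ne (D.simple i) 1} : Set G) = {s} := by
        ext t; exact ⟨fun h => Subtype.ext h, fun h => congrArg Subtype.val h⟩
      unfold BN.wPar at hw
      rw [hidx, Set.image_singleton, ← Subgroup.zpowers_eq_closure, Subgroup.mem_zpowers_iff] at hw
      obtain ⟨k, rfl⟩ := hw
      have h2' : BN.wgen R.bnPair s ^ (2 : ℤ) = 1 := by
        rw [zpow_two]; exact (BN.wgen_genInv R.bnPair).sq s
      rcases Int.even_or_odd' k with ⟨m, rfl | rfl⟩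
      · left; rw [zpow_mul, h2', one_zpow]
      · right; rw [zpow_add, zpow_mul, h2', one_zpow, one_mul, zpow_one]
    rcases hw2 with rfl | rfl
    · rw [R.BS_inf_UN ((BN.mem_cell_one R.bnPair).1 hgw) h2]; exact one_mem _
    · rw [show BN.wgen R.bnPair s = BN.wmk R.bnPair (BN.sgen R.bnPair s) from rfl,
        BN.cell_eq_doubleCoset] at hgw
      obtain ⟨b, hb, b', hb', rfl⟩ := DoubleCoset.mem_doubleCoset.1 hgw
      obtain ⟨u, hu, h, hh, e⟩ := R.exists_of_mem_BS (inv_mem hb')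
      obtain ⟨v, hv, t, e'⟩ := R.exists_UP_split i (inv_mem hu)
      have hb'' : b' = h⁻¹ * (v * R.xe (D.simple i) t) := by rw [← e', ← mul_inv_rev, ← e, inv_inv]
      obtain ⟨b1, hb1, hgb⟩ : ∃ b1 ∈ R.BS, b * R.ne (D.simple i) 1 * b' =
          b1 * (R.ne (D.simple i) 1 * R.xe (D.simple i) t * (R.ne (D.simple i) 1)⁻¹) * R.ne (D.simple i) 1 := by
        refine ⟨b * (R.ne (D.simple i) 1 * h⁻¹ * (R.ne (D.simple i) 1)⁻¹) *
          (R.ne (D.simple i) 1 * v * (R.ne (D.simple i) 1)⁻¹), mul_mem (mul_mem hb (R.HS_le_BS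
            (R.HS_conj (R.ne_simple_mem_NS i one_ne_zero) (inv_mem hh))))
            (R.UP_le_BS (R.US_mono (R.restSet_subset i) (R.ne_conj_rest i hv))), by rw [hb'']; group⟩
      rw [R.ne_conj_xe_simple i t] at hgb
      rcases eq_or_ne t 0 with ht | ht
      · exfalso
        rw [ht, neg_zero, R.xe_zero, mul_one] at hgb
        replace h2 : b * R.ne (D.simple i) 1 * b' ∈ R.UN := h2
        rw [hgb] at h2
        obtain ⟨y, hy, e2⟩ : b1 * R.ne (D.simple i) 1 ∈ R.UP.map (MulAut.conj (n0 R : G)).toMonoidHom :=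
          (map_conj_UP R).symm ▸ h2
        replace e2 : (n0 R : G) * y * (n0 R : G)⁻¹ = b1 * R.ne (D.simple i) 1 := e2
        have h3 := R.bnu_weyl (n := R.nS i * n0 R) (n' := n0 R) hb1 (one_mem _) (one_mem _) hy (by
          rw [Subgroup.coe_mul, one_mul, mul_one]
          show b1 * (R.ne (D.simple i) 1 * (n0 R : G)) = _
          rw [← mul_assoc, ← e2, inv_mul_cancel_right])
        rw [Subgroup.coe_mul] at h3
        have h4 : (R.nS i : G) ∈ R.HS := by
          have := inv_mem (R.HS_conj (n0 R).2 h3)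
          simpa [mul_assoc] using this
        exact R.ne_conj_not_le i (mul_mem (mul_mem (R.HS_le_BS h4) (R.xe_pos_mem_BS (R.sroot_pos i) 1))
          (R.HS_le_BS h4))
      · have hs : -t ≠ 0 := neg_ne_zero.2 ht
        have hneq := R.xe_neg_eq (D.simple i) (neg_ne_zero.2 hs)
        rw [neg_neg, neg_neg] at hneq
        have hsplit : ∃ b2 ∈ R.BS, R.xe (D.neg (D.simple i)) (-t) * R.ne (D.simple i) 1 =
            b2 * R.xe (D.neg (D.simple i)) (-(-t)⁻¹) := by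
          refine ⟨R.xe (D.simple i) (-t⁻¹) * (R.ne (D.simple i) t⁻¹ * R.ne (D.simple i) 1), mul_mem
            (R.xe_pos_mem_BS (R.sroot_pos i) _) (R.HS_le_BS ?_), ?_⟩
          · rw [R.ne_eq_he_mul _ t⁻¹, mul_assoc]
            exact mul_mem (R.he_mem_HS i (inv_ne_zero ht)) (R.nS_mul_self_mem i)
          · have hc : R.xe (D.simple i) (-t⁻¹) * R.ne (D.simple i) 1 =
                R.ne (D.simple i) 1 * R.xe (D.neg (D.simple i)) (-(-t)⁻¹) := by
              have h := R.ne_conj_xe_neg (R.sroot i) one_ne_zero (-(-t)⁻¹)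
              rw [one_pow, one_mul, neg_neg, inv_neg] at h
              rw [inv_neg]
              exact (mul_inv_eq_iff_eq_mul.1 h).symm
            have h0 := R.xe_neg_eq (D.simple i) ht
            rw [h0, mul_assoc, hc]; simp only [mul_assoc]
        obtain ⟨b2, hb2, e3⟩ := hsplit
        refine ⟨-(-t)⁻¹, ?_⟩
        show b * R.ne (D.simple i) 1 * b' = _
        rw [hgb, mul_assoc, e3, ← mul_assoc]
        have hbb : b1 * b2 = 1 := by
          refine R.BS_inf_UN (mul_mem hb1 hb2) ?_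
          have h2' : b * R.ne (D.simple i) 1 * b' ∈ R.UN := h2
          rw [hgb, mul_assoc, e3, ← mul_assoc] at h2'
          have hx : R.xe (D.neg (D.simple i)) (-(-t)⁻¹) ∈ R.UN :=
            R.xe_mem_US (S := negSet D) (r := R.negF (R.sroot i))
              (fun hp => (R.negF_pos_iff _).1 hp (R.sroot_pos i)) _
          simpa using mul_mem h2' (inv_mem hx)
        rw [hbb, one_mul]
  · rintro _ ⟨t, rfl⟩
    refine Subgroup.mem_inf.2 ⟨?_, R.xe_mem_US (S := negSet D) (r := R.negF (R.sroot i))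
      (fun hp => (R.negF_pos_iff _).1 hp (R.sroot_pos i)) _⟩
    have := hsq (-t)
    rw [R.ne_conj_xe_simple i, neg_neg] at this
    exact this

theorem exists_P1_image {φ : MulAut G} (hU : R.UP.map φ.toMonoidHom = R.UP) (i : Fin D.rank) :
    ∃ j : Fin D.rank, (P1 R i).map φ.toMonoidHom = P1 R j := by
  have hJ : ∀ j : Fin D.rank, ({R.ne (D.simple j) 1} : Set G) ⊆ R.bnPair.S := fun j =>
    Set.singleton_subset_iff.2 ⟨j, rfl⟩
  have hB : R.BS ≤ (P1 R i).map φ.toMonoidHom := by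
    conv_lhs => rw [← map_BS R hU]
    exact Subgroup.map_mono le_sup_left
  have hM := BN.overgroup_eq_parabolic R.bnPair hB
  obtain ⟨j, hj⟩ : ∃ j : Fin D.rank, R.ne (D.simple j) 1 ∈ (P1 R i).map φ.toMonoidHom := by
    by_contra hcon
    push Not at hcon
    have hle : (P1 R i).map φ.toMonoidHom ≤ R.BS := by
      rw [hM]
      refine sup_le le_rfl ((Subgroup.closure_le _).2 ?_)
      rintro _ ⟨⟨j, rfl⟩, h⟩
      exact absurd h (hcon j)
    rw [← map_BS R hU, Subgroup.map_le_map_iff_of_injective φ.injective] at hle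
    exact BN.simple_not_mem_B R.bnPair (s := R.ne (D.simple i) 1) ⟨i, rfl⟩
      (hle (Subgroup.mem_sup_right (Subgroup.subset_closure rfl)))
  refine ⟨j, le_antisymm ?_ (sup_le hB ((Subgroup.closure_le _).2 (Set.singleton_subset_iff.2 hj)))⟩
  have hN : R.BS ≤ (P1 R j).comap φ.toMonoidHom := fun g hg => Subgroup.mem_sup_left (mem_BS_iff_map R hU hg)
  rw [Subgroup.map_le_iff_le_comap]
  refine sup_le hN ((Subgroup.closure_le _).2 (Set.singleton_subset_iff.2 ?_))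
  by_contra hni
  have hle : (P1 R j).comap φ.toMonoidHom ≤ R.BS := by
    rw [BN.overgroup_eq_parabolic R.bnPair hN]
    refine sup_le le_rfl ((Subgroup.closure_le _).2 ?_)
    rintro _ ⟨⟨k, rfl⟩, hk⟩
    exfalso
    have hki : R.ne (D.simple k) 1 ∈ P1 R i := by
      have h5 : (P1 R j).comap φ.toMonoidHom ≤ P1 R i := by
        intro g hg
        obtain ⟨y, hy, e⟩ : φ g ∈ (P1 R i).map φ.toMonoidHom :=
          sup_le hB ((Subgroup.closure_le _).2 (Set.singleton_subset_iff.2 hj)) hg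
        rwa [← φ.injective e]
      exact h5 hk
    have hkk : R.ne (D.simple k) 1 = R.ne (D.simple i) 1 :=
      Set.mem_singleton_iff.1 ((BN.mem_parabolic_of_coe R.bnPair (hJ i) (s := ⟨_, k, rfl⟩)).1 hki)
    rw [hkk] at hk
    exact hni hk
  obtain ⟨y, hy, e⟩ := hj
  replace e : φ y = R.ne (D.simple j) 1 := e
  have h6 : y ∈ R.BS := hle (show φ y ∈ P1 R j from e ▸ Subgroup.mem_sup_right (Subgroup.subset_closure rfl))
  exact BN.simple_not_mem_B R.bnPair (s := R.ne (D.simple j) 1) ⟨j, rfl⟩ (e ▸ mem_BS_iff_map R hU h6)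

theorem exists_neg_image {φ : MulAut G} (hU : R.UP.map φ.toMonoidHom = R.UP)
    (hV : R.UN.map φ.toMonoidHom = R.UN) (i : Fin D.rank) :
    ∃ j : Fin D.rank, (XS R (D.neg (D.simple i))).map φ.toMonoidHom = XS R (D.neg (D.simple j)) := by
  obtain ⟨j, hj⟩ := exists_P1_image R hU i
  exact ⟨j, by rw [← P1_inf_UN R i, Subgroup.map_inf _ _ _ φ.injective, hj, hV, P1_inf_UN R j]⟩

theorem map_conj_XS {g : G} {σ : Equiv.Perm (Fin D.nroots)} {a : Fin D.nroots → F} (ha : R.IsMon g σ a)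
    (r : Fin D.nroots) : (XS R r).map (MulAut.conj g).toMonoidHom = XS R (σ r) := by
  refine le_antisymm ?_ ?_
  · rintro _ ⟨_, ⟨t, rfl⟩, rfl⟩
    exact ⟨a r * t, (ha r).2.2.2 t⟩
  · rintro _ ⟨t, rfl⟩
    exact ⟨_, ⟨(a r)⁻¹ * t, rfl⟩, ((ha r).2.2.2 _).trans (by rw [mul_inv_cancel_left₀ (ha r).1])⟩

omit [Finite G] in
theorem xe_not_commute (i : Fin D.rank) :
    ¬ Commute (R.xe (D.simple i) 1) (R.xe (D.neg (D.simple i)) (-1)) := by
  intro h
  have hne : R.ne (D.simple i) 1 = R.xe (D.neg (D.simple i)) (-1) * R.xe (D.simple i) 2 := by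
    show R.xe _ 1 * R.xe _ (-1⁻¹) * R.xe _ 1 = _
    rw [inv_one, h.eq, mul_assoc, R.xe_add', one_add_one_eq_two]
  have h1 := R.ne_conj_xe_simple i 1
  rw [hne] at h1
  have hxx : Commute (R.xe (D.simple i) 2) (R.xe (D.simple i) 1) := by
    show _ * _ = _ * _; rw [R.xe_add', R.xe_add', add_comm]
  rw [_root_.mul_inv_rev, mul_assoc (R.xe (D.neg (D.simple i)) (-1)) _ (R.xe (D.simple i) 1), hxx.eq,
    show ∀ A P Q : G, A * (P * Q) * (Q⁻¹ * A⁻¹) = A * P * A⁻¹ from fun A P Q => by group,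
    ← h.eq, mul_inv_cancel_right] at h1
  exact (R.sroot_pos i |> fun hp => R.negF_ne (R.sroot i))
    (R.xe_inj_root (r := R.sroot i) (r' := R.negF (R.sroot i)) one_ne_zero h1).symm

/-- `φ` permutes the simple root subgroups and their negatives by one permutation -/
theorem exists_perm {φ : MulAut G} (hchk : chkSimple D X = true) (hU : R.UP.map φ.toMonoidHom = R.UP)
    (hV : R.UN.map φ.toMonoidHom = R.UN) :
    ∃ π : Equiv.Perm (Fin D.rank), ∀ i : Fin D.rank,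
      (XS R (D.simple i)).map φ.toMonoidHom = XS R (D.simple (π i)) ∧
      (XS R (D.neg (D.simple i))).map φ.toMonoidHom = XS R (D.neg (D.simple (π i))) := by
  obtain ⟨hcomm, honly⟩ := chkSimple_spec hchk
  choose π hπ using exists_neg_image R hU hV
  have hsroot : ∀ i : Fin D.rank, (R.sroot i : ℕ) = D.simple i := fun i => rfl
  have hinjX : ∀ r s : Fin D.nroots, XS R r = XS R s → r = s := fun r s e => by
    obtain ⟨t, ht⟩ : R.xe r 1 ∈ XS R s := e ▸ ⟨1, rfl⟩
    exact R.xe_inj_root one_ne_zero ht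
  have hπinj : Function.Injective π := by
    intro i j e
    have h1 : XS R (D.neg (D.simple i)) = XS R (D.neg (D.simple j)) :=
      Subgroup.map_injective φ.injective (((hπ i).trans (by rw [e])).trans (hπ j).symm)
    have h2 := hinjX (R.negF (R.sroot i)) (R.negF (R.sroot j)) h1
    exact R.sroot_injective (by rw [← R.negF_negF (R.sroot i), h2, R.negF_negF])
  -- the opposite automorphism
  obtain ⟨ψ, hψ⟩ : ∃ ψ : MulAut G, ψ = (MulAut.conj (n0 R : G))⁻¹ * φ * MulAut.conj (n0 R : G) := ⟨_, rfl⟩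
  have hmapψ : ∀ H : Subgroup G, H.map ψ.toMonoidHom =
      ((H.map (MulAut.conj (n0 R : G)).toMonoidHom).map φ.toMonoidHom).map
        ((MulAut.conj (n0 R : G))⁻¹).toMonoidHom := fun H => by
    rw [Subgroup.map_map, Subgroup.map_map, hψ]; rfl
  have hback : ∀ H : Subgroup G, (H.map (MulAut.conj (n0 R : G)).toMonoidHom).map
      ((MulAut.conj (n0 R : G))⁻¹).toMonoidHom = H := fun H => by
    rw [Subgroup.map_map]; ext x; simp [mul_assoc]
  have hψU : R.UP.map ψ.toMonoidHom = R.UP := by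
    rw [hmapψ, map_conj_UP R, hV, ← map_conj_UP R, hback]
  have hψV : R.UN.map ψ.toMonoidHom = R.UN := by
    rw [hmapψ, map_conj_UN R, hU, ← map_conj_UN R, hback]
  choose π' hπ' using exists_neg_image R hψU hψV
  obtain ⟨a, ha⟩ := R.isMon_nsPerm (n0 R)
  obtain ⟨ρ, hρ⟩ : ∃ ρ, ρ = R.nsPerm (n0 R) := ⟨_, rfl⟩
  rw [← hρ] at ha
  have hpos : ∀ r : Fin D.nroots, ¬ half D ≤ (r : ℕ) → half D ≤ (ρ r : ℕ) := by
    intro r hr
    by_contra hcon
    have h1 := (n0_spec R).2 _ (R.xe_mem_US (S := negSet D) hr 1)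
    rw [(ha r).2.2.2 1] at h1
    have h2 := UP_inf_UN R h1 (R.xe_mem_US (S := negSet D) hcon _)
    rw [← R.xe_zero (ρ r : ℕ), mul_one] at h2
    exact (ha r).1 (R.xe_inj_param h2)
  have hneg : ∀ r : Fin D.nroots, half D ≤ (r : ℕ) → ¬ half D ≤ (ρ⁻¹ r : ℕ) := by
    intro r hr hcon
    have h1 := (n0_spec R).1 _ (R.xe_mem_US (S := posSet D) hcon 1)
    rw [(ha (ρ⁻¹ r)).2.2.2 1, show ρ (ρ⁻¹ r) = r from ρ.apply_symm_apply r] at h1
    have h2 := UP_inf_UN R (R.xe_mem_US (S := posSet D) hr _) h1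
    rw [← R.xe_zero (r : ℕ), mul_one] at h2
    exact (ha (ρ⁻¹ r)).1 (R.xe_inj_param h2)
  have hlong : ∀ i : Fin D.rank, ∃ j : Fin D.rank, ρ (R.negF (R.sroot i)) = R.sroot j := by
    intro i
    have hp := hpos _ (fun h => (R.negF_pos_iff _).1 h (R.sroot_pos i))
    obtain ⟨r, hr⟩ : ∃ r, r = ρ (R.negF (R.sroot i)) := ⟨_, rfl⟩
    rw [← hr] at hp
    obtain ⟨j, hj⟩ := R.exists_coef_ne_zero r
    have hlin : R.IsLin (ρ⁻¹) := by rw [hρ, ← map_inv]; exact R.isLin_nsPerm _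
    have hsum := fun k => hlin r k
    have hr' : ρ⁻¹ r = R.negF (R.sroot i) := by rw [hr]; exact ρ.symm_apply_apply _
    have hterm : ∀ (l k : Fin D.rank), X.coef l (r : ℕ) * X.coef k (ρ⁻¹ (R.sroot l) : ℕ) ≤ 0 := fun l k =>
      mul_nonpos_iff.2 (Or.inl ⟨R.cert.coef_nonneg r.2 l.2 hp, by
        have h1 := R.cert.coef_nonneg (R.negF (ρ⁻¹ (R.sroot l))).2 k.2
          ((R.negF_pos_iff _).2 (hneg _ (R.sroot_pos l)))
        rw [show (R.negF (ρ⁻¹ (R.sroot l)) : ℕ) = D.neg (ρ⁻¹ (R.sroot l) : ℕ) from rfl,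
          R.cert.coef_neg (ρ⁻¹ (R.sroot l)).2 k.2] at h1
        omega⟩)
    have hzero : ∀ k : Fin D.rank, k ≠ i → X.coef k (ρ⁻¹ (R.sroot j) : ℕ) = 0 := by
      intro k hk
      have h0 := hsum k
      rw [hr', show (R.negF (R.sroot i) : ℕ) = D.neg (R.sroot i : ℕ) from rfl,
        R.cert.coef_neg (R.sroot i).2 k.2, R.coef_sroot, if_neg hk, neg_zero] at h0
      have := (Finset.sum_eq_zero_iff_of_nonpos (fun l _ => hterm l k)).1 h0.symm j (Finset.mem_univ _)
      exact (mul_eq_zero.1 this).resolve_left hj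
    have hs : R.negF (ρ⁻¹ (R.sroot j)) = R.sroot i := Fin.ext (honly _ i (R.negF (ρ⁻¹ (R.sroot j))).2 i.2
      ((R.negF_pos_iff _).2 (hneg _ (R.sroot_pos j))) fun k hk hki => by
        rw [show (R.negF (ρ⁻¹ (R.sroot j)) : ℕ) = D.neg (ρ⁻¹ (R.sroot j) : ℕ) from rfl,
          R.cert.coef_neg (ρ⁻¹ (R.sroot j)).2 hk, hzero ⟨k, hk⟩ (fun e => hki (congrArg Fin.val e)), neg_zero])
    exact ⟨j, by rw [← hs, R.negF_negF]; exact ρ.apply_symm_apply _⟩
  choose τ hτ using hlong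
  have hτinj : Function.Injective τ := by
    intro i j e
    have h1 := ρ.injective ((hτ i).trans (by rw [e, ← hτ j]))
    exact R.sroot_injective (by rw [← R.negF_negF (R.sroot i), h1, R.negF_negF])
  have hY : ∀ i : Fin D.rank, (XS R (D.simple (τ i))).map φ.toMonoidHom = XS R (D.simple (τ (π' i))) := by
    intro i
    have h1 : ∀ i : Fin D.rank, (XS R (D.neg (D.simple i))).map (MulAut.conj (n0 R : G)).toMonoidHom = XS R (D.simple (τ i)) := by
      intro i
      rw [show D.neg (D.simple i) = ((R.negF (R.sroot i) : Fin D.nroots) : ℕ) from rfl, map_conj_XS R ha, hτ i,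
        hsroot]
    have h2 := hπ' i
    rw [hmapψ, h1 i] at h2
    rw [← h1 (π' i), ← h2, Subgroup.map_map (K := (XS R (D.simple (τ i))).map φ.toMonoidHom)]
    ext x; simp [mul_assoc]
  refine ⟨Equiv.ofBijective π ⟨hπinj, (Finite.injective_iff_surjective).1 hπinj⟩, fun i => ⟨?_, hπ i⟩⟩
  obtain ⟨i', rfl⟩ := (Finite.injective_iff_surjective).1 hτinj i
  rw [hY i']
  suffices e : τ (π' i') = π (τ i') by rw [e]; rfl
  by_contra hne
  obtain ⟨y, hy, e1⟩ : R.xe (D.simple (τ (π' i'))) 1 ∈ (XS R (D.simple (τ i'))).map φ.toMonoidHom := by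
    rw [hY]; exact ⟨1, rfl⟩
  obtain ⟨t, rfl⟩ := hy
  obtain ⟨k, hk⟩ : ∃ k, π (τ i') = k := ⟨_, rfl⟩
  have hcm : ∀ s u, Commute (R.xe (D.simple (τ (π' i'))) s) (R.xe (D.neg (D.simple (π (τ i')))) u) := by
    intro s u
    have hlt := R.cert.simple_lt (τ (π' i')).2
    have hlt' := R.cert.neg_lt (R.cert.simple_lt (π (τ i')).2)
    have hne1 : D.simple (τ (π' i')) ≠ D.neg (D.simple (π (τ i'))) := fun e => by
      have h1 := R.sroot_pos (τ (π' i'))
      rw [hsroot, e] at h1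
      exact (R.negF_pos_iff (R.sroot (π (τ i')))).1 h1 (R.sroot_pos _)
    have hne2 : D.simple (τ (π' i')) ≠ D.neg (D.neg (D.simple (π (τ i')))) := by
      rw [R.cert.neg_neg (R.cert.simple_lt (π (τ i')).2)]
      exact fun e => hne (R.sroot_injective (Fin.ext e))
    have h := R.xe_comm _ _ u s hlt' hlt hne1 hne2
    rw [ChevalleyDatum.commWord, hcomm _ _ (τ (π' i')).2 (π (τ i')).2 (fun e => hne (Fin.ext e)), List.map_nil,
      List.map_nil, List.prod_nil, mul_one] at h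
    exact h
  refine xe_not_commute R (τ i') ?_
  have h1 : φ (R.xe (D.simple (τ i')) 1) ∈ XS R (D.simple (τ (π' i'))) := (hY i').le ⟨_, ⟨1, rfl⟩, rfl⟩
  have h2 : φ (R.xe (D.neg (D.simple (τ i'))) (-1)) ∈ XS R (D.neg (D.simple (π (τ i')))) :=
    (hπ (τ i')).le ⟨_, ⟨-1, rfl⟩, rfl⟩
  obtain ⟨s, hs⟩ := h1
  obtain ⟨u, hu⟩ := h2
  have hc := hcm s u
  rw [← hs, ← hu] at hc
  exact φ.injective (by simpa [map_mul] using hc.eq)

end CfsgLib.Known.ChevAut
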