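import Cfsg.Agent.Lib.Known.ChevAut.Gamma
import Cfsg.Agent.Lib.Known.AutPSL.Structure

/-!
# `|Out|` for G₂, F₄, E₆, E₇, E₈
-/

set_option autoImplicit false

namespace CfsgLib.Known.ChevAut

open Cfsg.Lie
open CfsgLib.Lie.Chev
open CfsgLib.Known
open Cfsg

variable {F : Type*} [Field F] [Fintype F] (p f : ℕ) [Fact p.Prime] [CharP F p] (hF : Fintype.card F = p ^ f)
include hF

omit [CharP F p] in
theorem card_gal : Nat.card (F ≃+* F) = f :=
  (CfsgLib.Known.AutPSL.card_ringAut hF (Nat.one_le_iff_ne_zero.2 fun h => by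
    have := Fintype.one_lt_card (α := F); rw [hF, h] at this; simp at this)).1

theorem out_G2 : Nat.card (Out ↥(chevG2.group F)) = if p = 3 then 2 * f else f := by
  have hd := card_HS_mul certG2 F cmat_G2 smithG2
  rw [card_out certG2 ChevDiag.stepsG2 decomposes_G2 (card_gal p f hF) hd, ncard_gamma_G2 p]
  have : (∏ i : Fin chevG2.rank, Nat.gcd (Fintype.card F - 1) (([1, 1] : List ℕ).getD i 0)) = 1 :=
    Finset.prod_eq_one fun i _ => by
      have h : ∀ i : Fin chevG2.rank, ([1, 1] : List ℕ).getD i 0 = 1 := by decide +kernel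
      rw [h, Nat.gcd_one_right]
  rw [this]
  split_ifs <;> simp

theorem out_F4 : Nat.card (Out ↥(chevF4.group F)) = Nat.gcd 2 p * f := by
  have hd := card_HS_mul certF4 F cmat_F4 smithF4
  rw [card_out certF4 ChevDiag.stepsF4 decomposes_F4 (card_gal p f hF) hd, ncard_gamma_F4 p]
  have : (∏ i : Fin chevF4.rank, Nat.gcd (Fintype.card F - 1) (([1, 1, 1, 1] : List ℕ).getD i 0)) = 1 :=
    Finset.prod_eq_one fun i _ => by
      have h : ∀ i : Fin chevF4.rank, ([1, 1, 1, 1] : List ℕ).getD i 0 = 1 := by decide +kernel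
      rw [h, Nat.gcd_one_right]
  rw [this, mul_one]

theorem out_E6 : Nat.card (Out ↥(chevE6.group F)) = 2 * Nat.gcd 3 (p ^ f - 1) * f := by
  have hd := card_HS_mul certE6 F cmat_E6 smithE6
  rw [card_out certE6 ChevDiag.stepsE6 decomposes_E6 (card_gal p f hF) hd, ncard_gamma_E6]
  have : (∏ i : Fin chevE6.rank, Nat.gcd (Fintype.card F - 1) (([1, 1, 1, 1, 1, 3] : List ℕ).getD i 0)) =
      Nat.gcd (Fintype.card F - 1) 3 := by
    rw [Finset.prod_eq_single (⟨5, by decide⟩ : Fin chevE6.rank) (fun i _ hi => ?_) (by simp)]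
    · rfl
    · have h : ∀ i : Fin chevE6.rank, i ≠ ⟨5, by decide⟩ → ([1, 1, 1, 1, 1, 3] : List ℕ).getD i 0 = 1 := by
        decide +kernel
      rw [h i hi, Nat.gcd_one_right]
  rw [this, hF, Nat.gcd_comm]; ring

theorem out_E7 : Nat.card (Out ↥(chevE7.group F)) = Nat.gcd 2 (p ^ f - 1) * f := by
  have hd := card_HS_mul certE7 F cmat_E7 smithE7
  rw [card_out certE7 ChevDiag.stepsE7 decomposes_E7 (card_gal p f hF) hd, ncard_gamma_E7]
  have : (∏ i : Fin chevE7.rank, Nat.gcd (Fintype.card F - 1) (([1, 1, 1, 1, 1, 1, 2] : List ℕ).getD i 0)) =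
      Nat.gcd (Fintype.card F - 1) 2 := by
    rw [Finset.prod_eq_single (⟨6, by decide⟩ : Fin chevE7.rank) (fun i _ hi => ?_) (by simp)]
    · rfl
    · have h : ∀ i : Fin chevE7.rank, i ≠ ⟨6, by decide⟩ → ([1, 1, 1, 1, 1, 1, 2] : List ℕ).getD i 0 = 1 := by
        decide +kernel
      rw [h i hi, Nat.gcd_one_right]
  rw [this, hF, Nat.gcd_comm]; ring

theorem out_E8 : Nat.card (Out ↥(chevE8.group F)) = f := by
  have hd := card_HS_mul certE8 F cmat_E8 smithE8
  rw [card_out certE8 ChevDiag.stepsE8 decomposes_E8 (card_gal p f hF) hd, ncard_gamma_E8]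
  have : (∏ i : Fin chevE8.rank, Nat.gcd (Fintype.card F - 1) (([1, 1, 1, 1, 1, 1, 1, 1] : List ℕ).getD i 0)) = 1 :=
    Finset.prod_eq_one fun i _ => by
      have h : ∀ i : Fin chevE8.rank, ([1, 1, 1, 1, 1, 1, 1, 1] : List ℕ).getD i 0 = 1 := by decide +kernel
      rw [h, Nat.gcd_one_right]
  rw [this, one_mul, mul_one]

end CfsgLib.Known.ChevAut
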