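import Cfsg.Agent.Lib.Known.ChevAut.Types
import Cfsg.Agent.Lib.Known.ChevFixed

/-!
# Automorphisms of Chevalley groups: inner × diagonal × graph × field
-/

set_option autoImplicit false

namespace CfsgLib.Known.ChevAut

open Cfsg.Lie (ChevalleyDatum)
open CfsgLib.Lie.Chev
open CfsgLib.Known
open Cfsg

variable {D : ChevalleyDatum} {X : Aux} (C : Cert D X) {F : Type*} [Field F] [Finite F]
include C

/-- an automorphism fixing `U` and `U⁻` is diagonal times graph times field -/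
theorem exists_dgf (hT : Decomposes D C F) {φ : MulAut ↥(D.group F)}
    (hU : (chevRel C F).UP.map φ.toMonoidHom = (chevRel C F).UP)
    (hV : (chevRel C F).UN.map φ.toMonoidHom = (chevRel C F).UN) :
    ∃ (d g : MulAut ↥(D.group F)) (τ : F ≃+* F),
      D.IsDiagonalAut d ∧ D.IsGraphAut g ∧ φ = d * g * fieldAut D τ := by
  obtain ⟨hU', hchk, hS⟩ := hT
  obtain ⟨a, π, σ, ψ, rfl, hψ⟩ := exists_diag_std C hS hchk hU hV
  obtain ⟨hsym, τ, hτ⟩ := hU' ψ π σ hψ
  refine ⟨_, ψ * (fieldAut D τ : MulAut _)⁻¹, τ, isDiagonalAut_diagAut C hS (isRootCharacter_chi C a),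
    ⟨π, hsym, fun g i t => ?_⟩, by rw [mul_assoc, inv_mul_cancel_right]⟩
  have hinv : ∀ r u, (fieldAut D τ : MulAut ↥(D.group F))⁻¹ ((chevRel C F).xe r u) = (chevRel C F).xe r (τ.symm u) :=
    fun r u => (fieldAut D τ).injective (by
      show fieldAut D τ ((fieldAut D τ).symm _) = _
      rw [MulEquiv.apply_symm_apply, ChevFixed.fieldAut_xe C, RingEquiv.apply_symm_apply])
  constructor <;> intro e
  · rw [show g = (chevRel C F).xe (D.simple i) t from Subtype.ext (Units.ext e)]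
    show ((ψ ((fieldAut D τ : MulAut ↥(D.group F))⁻¹ _) : GL D.Idx F) : Matrix D.Idx D.Idx F) = _
    rw [hinv, (hψ i _).1, hτ, RingEquiv.apply_symm_apply]
    rfl
  · rw [show g = (chevRel C F).xe (D.neg (D.simple i)) t from Subtype.ext (Units.ext e)]
    show ((ψ ((fieldAut D τ : MulAut ↥(D.group F))⁻¹ _) : GL D.Idx F) : Matrix D.Idx D.Idx F) = _
    rw [hinv, (hψ i _).2, hτ, RingEquiv.apply_symm_apply]
    rfl

theorem automorphism_decomposition (hT : Decomposes D C F) (θ : ↥(D.group F) ≃* ↥(D.group F)) :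
    ∃ (x : ↥(D.group F)) (d g f : ↥(D.group F) ≃* ↥(D.group F)),
      D.IsDiagonalAut d ∧ D.IsGraphAut g ∧ D.IsFieldAut f ∧ ∀ y : ↥(D.group F), θ y = x * d (g (f y)) * x⁻¹ := by
  obtain ⟨x, hU, hV⟩ := exists_fixes C θ
  obtain ⟨d, g, τ, hd, hg, e⟩ := exists_dgf C hT hU hV
  refine ⟨x⁻¹, d, g, fieldAut D τ, hd, hg, ⟨τ, fun g r t _ e => fieldAut_spec D τ g r t e⟩, fun y => ?_⟩
  have h : x * θ y * x⁻¹ = d (g (fieldAut D τ y)) := DFunLike.congr_fun e y
  rw [← h]; group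

end CfsgLib.Known.ChevAut
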