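import Cfsg.Agent.Lib.Known.ChevAut.Params
import Cfsg.Agent.Lib.Known.ChevDiag
import Cfsg.Agent.Lib.Lie.Rel.Sylow
import Cfsg.Agent.Lib.Lie.Rel.Torus
import Cfsg.Agent.Lib.Lie.Rel.Facts
import Cfsg.Agent.Lib.Lie.Rel.Checks

/-!
# Diagonal automorphisms, and the reduction of an automorphism to one permuting the simple root subgroups
-/

set_option autoImplicit false

open scoped Pointwise

namespace CfsgLib.Known.ChevAut

open Cfsg.Lie (ChevalleyDatum)
open CfsgLib.Lie.Chev
open CfsgLib.Known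

variable {D : ChevalleyDatum} {X : Aux} {F : Type*} [Field F]

/-- character of the root lattice with given values on the simple roots -/
def chi (X : Aux) (c : Fin D.rank → Fˣ) (r : ℕ) : Fˣ := ∏ j : Fin D.rank, c j ^ X.coef j r

theorem isRootCharacter_chi (C : Cert D X) (c : Fin D.rank → Fˣ) : D.IsRootCharacter (chi X c) := by
  refine ⟨fun r hr => ?_, fun r s k hr hs hk => ?_⟩
  · simp only [chi, C.coef_neg hr (Fin.is_lt _), zpow_neg, Finset.prod_inv_distrib]
  · rw [ChevalleyDatum.chainRoot, Option.map_eq_some_iff] at hk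
    obtain ⟨p, hp, rfl⟩ := hk
    obtain ⟨e, he, rfl, -⟩ := C.mem_chainEntry (List.mem_of_getElem? hp)
    rw [C.chainEntry_eq hr he] at hp
    have h := ((C.rows' hr).2 e he).2.2.2.2.2 (p, 0) (List.mem_zipIdx_iff_getElem?.2 hp)
    obtain ⟨-, -, h, -⟩ := h
    simp only [chi, ← Finset.prod_mul_distrib, ← zpow_add]
    refine Finset.prod_congr rfl fun j _ => ?_
    rw [h j j.2]; congr 1; simp; ring

theorem chi_simple (C : Cert D X) (c : Fin D.rank → Fˣ) (i : Fin D.rank) : chi X c (D.simple i) = c i := by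
  rw [chi, Finset.prod_eq_single i (fun j _ hj => ?_) (by simp)]
  · rw [C.coef_simple i.2 i.2, if_pos rfl, zpow_one]
  · rw [C.coef_simple i.2 j.2, if_neg (fun e => hj (Fin.ext e)), zpow_zero]

theorem charDiag_mul_inv (χ : ℕ → Fˣ) :
    D.charDiag F χ * D.charDiag F (fun s => (χ s)⁻¹) = 1 ∧ D.charDiag F (fun s => (χ s)⁻¹) * D.charDiag F χ = 1 := by
  constructor <;>
  · rw [ChevalleyDatum.charDiag, ChevalleyDatum.charDiag, Matrix.diagonal_mul_diagonal, ← Matrix.diagonal_one]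
    congr 1; funext x; cases x <;> simp

/-- the diagonal matrix of a character as an invertible matrix -/
def dGL (χ : ℕ → Fˣ) : GL D.Idx F :=
  ⟨D.charDiag F χ, D.charDiag F (fun s => (χ s)⁻¹), (charDiag_mul_inv χ).1, (charDiag_mul_inv χ).2⟩

variable (C : Cert D X) (hS : ChevDiag.chkSteps D = true)
include C hS

theorem conj_mem {χ : ℕ → Fˣ} (hχ : D.IsRootCharacter χ) {g : GL D.Idx F} (hg : g ∈ D.group F) :
    dGL (D := D) χ * g * (dGL (D := D) χ)⁻¹ ∈ D.group F := by
  suffices h : D.group F ≤ (D.group F).comap (MulAut.conj (dGL (D := D) χ)).toMonoidHom from h hg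
  refine (Subgroup.closure_le _).2 ?_
  rintro g ⟨r, t, e⟩
  show dGL (D := D) χ * g * (dGL (D := D) χ)⁻¹ ∈ D.group F
  refine Subgroup.subset_closure ⟨r, (χ r : F) * t, ?_⟩
  have e' : ∀ u : F, D.x F r u = D.xMat F r u := fun u => by unfold ChevalleyDatum.x; exact dif_pos r.2
  rw [← e', ← ChevDiag.conj_x C hS hχ r.2 t, e', ← e]
  rfl

/-- the diagonal automorphism of a character -/
def diagAut {χ : ℕ → Fˣ} (hχ : D.IsRootCharacter χ) : MulAut ↥(D.group F) where
  toFun g := ⟨dGL (D := D) χ * g * (dGL (D := D) χ)⁻¹, conj_mem C hS hχ g.2⟩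
  invFun g := ⟨(dGL (D := D) χ)⁻¹ * g * dGL (D := D) χ, by
    have hχ' : D.IsRootCharacter fun s => (χ s)⁻¹ :=
      ⟨fun r hr => by simp [hχ.1 r hr], fun r s k hr hs hk => by simp [hχ.2 r s k hr hs hk, mul_comm]⟩
    have h := conj_mem C hS hχ' g.2
    rw [show dGL (D := D) (fun s => (χ s)⁻¹) = (dGL (D := D) χ)⁻¹ from Units.ext rfl, inv_inv] at h
    exact h⟩
  left_inv g := Subtype.ext (by simp [mul_assoc])
  right_inv g := Subtype.ext (by simp [mul_assoc])
  map_mul' a b := Subtype.ext (by simp [mul_assoc])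

theorem isDiagonalAut_diagAut {χ : ℕ → Fˣ} (hχ : D.IsRootCharacter χ) : D.IsDiagonalAut (diagAut C hS hχ) :=
  ⟨χ, hχ, fun _ => rfl⟩

/-- action of a diagonal automorphism on a root element -/
theorem diag_xe {χ : ℕ → Fˣ} (hχ : D.IsRootCharacter χ) {φ : MulAut ↥(D.group F)}
    (hφ : ∀ g : ↥(D.group F), ((φ g : GL D.Idx F) : Matrix D.Idx D.Idx F) =
      D.charDiag F χ * ((g : GL D.Idx F) : Matrix D.Idx D.Idx F) * D.charDiag F (fun r => (χ r)⁻¹))
    {r : ℕ} (hr : r < D.nroots) (t : F) :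
    φ ((chevRel C F).xe r t) = (chevRel C F).xe r ((χ r : F) * t) :=
  Subtype.ext (Units.ext ((hφ _).trans (ChevDiag.conj_x C hS hχ hr t)))

theorem diagAut_xe {χ : ℕ → Fˣ} (hχ : D.IsRootCharacter χ) {r : ℕ} (hr : r < D.nroots) (t : F) :
    diagAut C hS hχ ((chevRel C F).xe r t) = (chevRel C F).xe r ((χ r : F) * t) :=
  diag_xe C hS hχ (fun _ => rfl) hr t

omit hS in
/-- automorphisms agreeing on the simple root elements and their negatives are equal -/
theorem aut_ext {φ ψ : MulAut ↥(D.group F)}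
    (h : ∀ (i : Fin D.rank) (t : F), φ ((chevRel C F).xe (D.simple i) t) = ψ ((chevRel C F).xe (D.simple i) t) ∧
      φ ((chevRel C F).xe (D.neg (D.simple i)) t) = ψ ((chevRel C F).xe (D.neg (D.simple i)) t)) : φ = ψ := by
  have hH : ∀ S : Subgroup ↥(D.group F), (∀ (i : Fin D.rank) (t : F), (chevRel C F).xe (D.simple i) t ∈ S ∧
      (chevRel C F).xe (D.neg (D.simple i)) t ∈ S) → ∀ g, g ∈ S := by
    intro S hS g
    have hne : ∀ (i : Fin D.rank), (chevRel C F).ne (D.simple i) 1 ∈ S := fun i =>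
      mul_mem (mul_mem (hS i _).1 (hS i _).2) (hS i _).1
    have hN : (chevRel C F).Nw ≤ S := (Subgroup.closure_le _).2 (by rintro _ ⟨i, rfl⟩; exact hne i)
    suffices h : (⊤ : Subgroup ↥(D.group F)) ≤ S from h trivial
    rw [← (chevRel C F).gen, Subgroup.closure_le]
    rintro _ ⟨r, t, rfl⟩
    by_cases hr : r < D.nroots
    · obtain ⟨g, hg, i, hi⟩ := (chevRel C F).exists_conj_simple ⟨r, hr⟩
      obtain ⟨a, ha⟩ := (chevRel C F).exists_isMon g
      have h1 := (ha ((chevRel C F).sroot i)).2.2.2 ((a ((chevRel C F).sroot i))⁻¹ * t)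
      rw [hi, mul_inv_cancel_left₀ (ha _).1] at h1
      rw [← h1]
      exact mul_mem (mul_mem (hN hg) (hS i _).1) (inv_mem (hN hg))
    · rw [(chevRel C F).xe_oob r t hr]; exact one_mem _
  refine MulEquiv.ext fun g => ?_
  exact hH (MonoidHom.eqLocus φ.toMonoidHom ψ.toMonoidHom) (fun i t => h i t) g

variable [Finite F]

omit hS in
/-- an automorphism can be corrected by an inner one to fix `U` and `U⁻` -/
theorem exists_fixes (θ : MulAut ↥(D.group F)) : ∃ x : ↥(D.group F),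
    (chevRel C F).UP.map (MulAut.conj x * θ).toMonoidHom = (chevRel C F).UP ∧
      (chevRel C F).UN.map (MulAut.conj x * θ).toMonoidHom = (chevRel C F).UN := by
  classical
  cases nonempty_fintype F
  obtain ⟨p, hp⟩ := CharP.exists F
  have hpp : Fact p.Prime := ⟨CharP.char_is_prime F p⟩
  have : Finite ↥(D.group F) := (chevRel C F).Finite_of_field
  obtain ⟨P, hP⟩ := pos_unipotent_sylow C F p
  have hPU : (P : Subgroup ↥(D.group F)) = (chevRel C F).UP := by
    rw [hP, posUnipotent_eq C F, subgroupOf_map C F]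
  obtain ⟨Q, hQ⟩ : ∃ Q : Sylow p ↥(D.group F), (Q : Subgroup ↥(D.group F)) = (chevRel C F).UP.map θ.toMonoidHom :=
    ⟨Sylow.ofCard _ (by
      rw [← Nat.card_congr ((chevRel C F).UP.equivMapOfInjective _ θ.injective).toEquiv, ← hPU]
      exact P.card_eq_multiplicity), Sylow.coe_ofCard _ _⟩
  obtain ⟨g, hg⟩ := MulAction.exists_smul_eq ↥(D.group F) Q P
  have hU : (chevRel C F).UP.map (MulAut.conj g * θ).toMonoidHom = (chevRel C F).UP := by
    conv_rhs => rw [← hPU, ← hg, Sylow.coe_subgroup_smul, hQ]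
    show (chevRel C F).UP.map ((MulAut.conj g).toMonoidHom.comp θ.toMonoidHom) = _
    rw [← Subgroup.map_map]
    rfl
  obtain ⟨u, h1, h2⟩ := exists_fix_opp (chevRel C F) _ hU
  exact ⟨u * g, by rw [map_mul, mul_assoc]; exact ⟨h1, h2⟩⟩

/-- an automorphism fixing `U` and `U⁻` is diagonal times one sending `x_i(t)` to `x_{π i}(σ_i t)` -/
theorem exists_diag_std (hchk : chkSimple D X = true) {φ : MulAut ↥(D.group F)}
    (hU : (chevRel C F).UP.map φ.toMonoidHom = (chevRel C F).UP)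
    (hV : (chevRel C F).UN.map φ.toMonoidHom = (chevRel C F).UN) :
    ∃ (a : Fin D.rank → Fˣ) (π : Equiv.Perm (Fin D.rank)) (σ : Fin D.rank → F ≃+* F) (ψ : MulAut ↥(D.group F)),
      φ = diagAut C hS (isRootCharacter_chi C a) * ψ ∧ Std (chevRel C F) ψ π σ := by
  have : Finite ↥(D.group F) := (chevRel C F).Finite_of_field
  obtain ⟨π, hπ⟩ := exists_perm (chevRel C F) hchk hU hV
  choose f hf using fun i : Fin D.rank => ((hπ i).1.le ⟨_, ⟨1, rfl⟩, rfl⟩ :
    φ ((chevRel C F).xe (D.simple i) 1) ∈ XS (chevRel C F) (D.simple (π i)))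
  have f0 : ∀ i, f i ≠ 0 := fun i e => by
    have h := hf i
    rw [e, Rel.xe_zero, ← map_one φ] at h
    exact one_ne_zero ((chevRel C F).xe_inj_param (r := (chevRel C F).sroot i) (t' := 0)
      ((φ.injective h).trans ((chevRel C F).xe_zero _).symm))
  obtain ⟨a, ha⟩ : ∃ a : Fin D.rank → Fˣ, ∀ i, (a (π i) : F) = f i :=
    ⟨fun j => Units.mk0 (f (π.symm j)) (f0 _), fun i => by simp⟩
  obtain ⟨d, hd⟩ : ∃ d, d = diagAut C hS (isRootCharacter_chi C a) := ⟨_, rfl⟩
  have hX : ∀ r : ℕ, r < D.nroots → (XS (chevRel C F) r).map d⁻¹.toMonoidHom = XS (chevRel C F) r := by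
    intro r hr
    refine le_antisymm ?_ ?_
    · rintro _ ⟨_, ⟨t, rfl⟩, rfl⟩
      refine ⟨((chi X a r : F))⁻¹ * t, d.injective ?_⟩
      show d (d.symm _) = _
      rw [MulEquiv.apply_symm_apply, hd, diagAut_xe C hS _ hr, ← mul_assoc, mul_inv_cancel₀ (Units.ne_zero _), one_mul]
    · rintro _ ⟨t, rfl⟩
      refine ⟨_, ⟨(chi X a r : F) * t, rfl⟩, d.injective ?_⟩
      show d (d.symm _) = _
      rw [MulEquiv.apply_symm_apply, hd, diagAut_xe C hS _ hr]
  have hX' : ∀ i : Fin D.rank, (XS (chevRel C F) (D.simple i)).map (d⁻¹ * φ).toMonoidHom = XS (chevRel C F) (D.simple (π i)) ∧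
      (XS (chevRel C F) (D.neg (D.simple i))).map (d⁻¹ * φ).toMonoidHom = XS (chevRel C F) (D.neg (D.simple (π i))) :=
    fun i => by
      have hc : (d⁻¹ * φ).toMonoidHom = d⁻¹.toMonoidHom.comp φ.toMonoidHom := rfl
      rw [hc, ← Subgroup.map_map, ← Subgroup.map_map, (hπ i).1, (hπ i).2, hX _ (C.simple_lt (π i).2),
        hX _ (C.neg_lt (C.simple_lt (π i).2))]
      exact ⟨rfl, rfl⟩
  have h1 : ∀ i : Fin D.rank, (d⁻¹ * φ) ((chevRel C F).xe (D.simple i) 1) = (chevRel C F).xe (D.simple (π i)) 1 :=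
    fun i => d.injective (by
      show d (d.symm _) = _
      rw [MulEquiv.apply_symm_apply, hd, diagAut_xe C hS _ (C.simple_lt (π i).2), chi_simple C, ha, mul_one]
      exact hf i)
  obtain ⟨σ, hσ⟩ := exists_std (chevRel C F) hX' h1
  exact ⟨a, π, σ, d⁻¹ * φ, by rw [← hd, mul_inv_cancel_left], hσ⟩

omit hS in
theorem center_eq_bot : Subgroup.center ↥(D.group F) = ⊥ := by
  have : Finite ↥(D.group F) := (chevRel C F).Finite_of_field
  rw [eq_bot_iff]
  intro z hz
  rw [Subgroup.mem_center_iff] at hz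
  have hc : ∀ x, z * x * z⁻¹ = x := fun x => by rw [← hz x, mul_inv_cancel_right]
  have hH := mem_HS_of_normalises (chevRel C F) (g := z) (fun x => by rw [hc]) (fun x => by rw [hc])
  obtain ⟨a, ha, hm⟩ := (chevRel C F).exists_mat_HS hH
  rw [Subgroup.mem_bot]
  refine chevRel_injective C F ((chevRel C F).θ_eq_of_mat ?_)
  rw [hm, Rel.mat_one, ← Matrix.diagonal_one]
  congr 1
  funext x
  rcases x with i | r
  · rfl
  · have h := (ha r).2.2.2 1
    rw [hc, Equiv.Perm.one_apply, mul_one] at h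
    exact ((chevRel C F).xe_inj_param h).symm

end CfsgLib.Known.ChevAut
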