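import Cfsg.Agent.Lib.Known.ChevAut.Diag

/-!
# The field automorphisms attached to the nodes differ only by the exponents of a graph automorphism
-/

set_option autoImplicit false

namespace CfsgLib.Known.ChevAut

open Cfsg.Lie (ChevalleyDatum)
open CfsgLib.Lie.Chev
open Cfsg

variable {D : ChevalleyDatum} {X : Aux} {F : Type*} [Field F] {G : Type*} [Group G] {R : Rel D X F G}
  {φ : MulAut G} {π : Equiv.Perm (Fin D.rank)} {σ : Fin D.rank → F ≃+* F}

/-- a single field automorphism with the exponents of a graph automorphism -/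
def Uniform (π : Equiv.Perm (Fin D.rank)) (σ : Fin D.rank → F ≃+* F) : Prop :=
  ∃ τ : F ≃+* F, ∀ i t, σ i t = τ t ^ D.graphExp (ringChar F) i (π i)

/-- `σ_j` is the `n`-th power of `σ_k` when the Cartan integers are `-1` and `-n` -/
theorem Std.sigma_pow (h : Std R φ π σ) {k j : Fin D.rank} {n : ℕ} (hn : 1 ≤ n)
    (h1 : D.cartan k (D.simple j) = -1) (h2 : D.cartan (π k) (D.simple (π j)) = -(n : ℤ)) (t : F) :
    σ j t = σ k t ^ n := by
  rcases eq_or_ne t 0 with rfl | ht
  · rw [map_zero, map_zero, zero_pow (by omega)]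
  · have := h.cartan_rel k j ht
    rw [h1, h2, zpow_neg_one, zpow_neg, zpow_natCast] at this
    exact inv_injective this

theorem Std.sigma_eq (h : Std R φ π σ) {k j : Fin D.rank}
    (h1 : D.cartan k (D.simple j) = -1) (h2 : D.cartan (π k) (D.simple (π j)) = -1) : σ k = σ j :=
  RingEquiv.ext fun t => by rw [h.sigma_pow le_rfl h1 (by simpa using h2) t, pow_one]

theorem sigma_const (hc : Rel.Connected D) (h0 : 0 < D.rank)
    (h : ∀ k j : Fin D.rank, k ≠ j → D.cartan k (D.simple j) ≠ 0 → σ k = σ j) (j : Fin D.rank) :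
    σ j = σ ⟨0, h0⟩ := by
  have := hc (fun k => ∀ hk : k < D.rank, σ ⟨k, hk⟩ = σ ⟨0, h0⟩) (fun a ha b hb hab => by
    have e : σ ⟨a, ha⟩ = σ ⟨b, hb⟩ := by
      rcases eq_or_ne a b with rfl | hne
      · rfl
      · exact h _ _ (fun e => hne (congrArg Fin.val e)) hab
    exact ⟨fun hh _ => e ▸ hh ha, fun hh _ => e.symm ▸ hh hb⟩) j j.2
  exact (this.2 fun _ => rfl) j.2

theorem uniform_of_const (τ : F ≃+* F) (h : ∀ i, σ i = τ)
    (he : ∀ i : Fin D.rank, D.graphExp (ringChar F) i (π i) = 1) : Uniform π σ :=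
  ⟨τ, fun i t => by rw [he, pow_one, h]⟩

/-- adjacent nodes have a Cartan integer `-1`, and the table of Cartan integers is symmetric in zeros -/
def chkAdj (D : ChevalleyDatum) : Bool :=
  (List.range D.rank).all fun k => (List.range D.rank).all fun j => Nat.beq k j ||
    decide (D.cartan k (D.simple j) = 0 → D.cartan j (D.simple k) = 0) &&
    decide (D.cartan k (D.simple j) ≠ 0 → D.cartan k (D.simple j) = -1 ∨ D.cartan j (D.simple k) = -1)

/-- all Cartan integers off the diagonal are `0` or `-1`, no node is long -/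
def chkLaced (D : ChevalleyDatum) : Bool :=
  (List.range D.rank).all fun k => !D.isLong (D.simple k) && (List.range D.rank).all fun j => Nat.beq k j ||
    decide (D.cartan k (D.simple j) = 0 ∨ D.cartan k (D.simple j) = -1)

theorem chkAdj_spec (hA : chkAdj D = true) {k j : Fin D.rank} (hne : k ≠ j) (h : D.cartan k (D.simple j) ≠ 0) :
    D.cartan j (D.simple k) ≠ 0 ∧ (D.cartan k (D.simple j) = -1 ∨ D.cartan j (D.simple k) = -1) := by
  simp only [chkAdj, List.all_eq_true, List.mem_range, Bool.or_eq_true, nat_beq_iff, Bool.and_eq_true,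
    decide_eq_true_iff] at hA
  refine ⟨fun e => h (((hA j j.2 k k.2).resolve_left (fun e => hne (Fin.ext e.symm))).1 e), ?_⟩
  exact ((hA k k.2 j j.2).resolve_left (fun e => hne (Fin.ext e))).2 h

theorem Std.uniform_id (h : Std R φ π σ) (hπ : π = 1) (hc : Rel.Connected D) (h0 : 0 < D.rank)
    (hA : chkAdj D = true) : Uniform π σ := by
  refine uniform_of_const (σ ⟨0, h0⟩) (sigma_const hc h0 fun k j hne hkj => ?_) fun i => ?_
  · rcases (chkAdj_spec hA hne hkj).2 with e | e
    · exact h.sigma_eq e (by simpa [hπ] using e)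
    · exact (h.sigma_eq e (by simpa [hπ] using e)).symm
  · rw [ChevalleyDatum.graphExp, hπ, Equiv.Perm.one_apply]
    cases D.isLong (D.simple i) <;> simp

theorem Std.uniform_laced (h : Std R φ π σ) (hπ : D.IsDiagramSymmetry π) (hc : Rel.Connected D) (h0 : 0 < D.rank)
    (hA : chkAdj D = true) (hL : chkLaced D = true) : Uniform π σ := by
  simp only [chkLaced, List.all_eq_true, List.mem_range, Bool.and_eq_true, Bool.not_eq_true', Bool.or_eq_true,
    nat_beq_iff, decide_eq_true_iff] at hL
  have hm1 : ∀ {a b : Fin D.rank}, a ≠ b → D.cartan a (D.simple b) ≠ 0 → D.cartan a (D.simple b) = -1 :=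
    fun {a b} hne hab => (((hL a a.2).2 b b.2).resolve_left (fun e => hne (Fin.ext e))).resolve_left hab
  refine uniform_of_const (σ ⟨0, h0⟩) (sigma_const hc h0 fun k j hne hkj => ?_) fun i => ?_
  · refine h.sigma_eq (hm1 hne hkj) (hm1 (fun e => hne (π.injective e)) fun e => ?_)
    have hb := hπ k j hne
    simp only [ChevalleyDatum.bonds, e, zero_mul] at hb
    exact mul_ne_zero hkj (chkAdj_spec hA hne hkj).1 hb.symm
  · rw [ChevalleyDatum.graphExp, (hL _ (π i).2).1]; simp

theorem two_eq_zero_of_sq (τ τ' : F ≃+* F) (e : ∀ u, τ u = τ' u ^ 2) : (2 : F) = 0 := by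
  have := e 2
  rw [map_ofNat, map_ofNat] at this
  linear_combination -this

theorem ringChar_eq_of_cast {p : ℕ} (hp : p.Prime) (h : (p : F) = 0) : ringChar F = p :=
  ((Nat.prime_dvd_prime_iff_eq (CharP.char_is_prime_of_two_le F (ringChar F) (by
    rcases hp.eq_one_or_self_of_dvd _ (ringChar.dvd h) with e | e
    · have := CharP.char_ne_one F (ringChar F); omega
    · rw [e]; exact hp.two_le)) hp).1 (ringChar.dvd h))

theorem forall_zero_or_one_of_cube (h : ∃ τ τ' : F ≃+* F, ∀ u, τ u = τ' u ^ 3) :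
    (3 : F) = 0 ∨ ∀ t : F, t = 0 ∨ t = 1 := by
  obtain ⟨τ, τ', e⟩ := h
  by_cases h3 : (3 : F) = 0
  · exact Or.inl h3
  refine Or.inr fun t => ?_
  have h8 : (2 : F) = 2 ^ 3 := by simpa only [map_ofNat] using e 2
  have h2 : (2 : F) = 0 := (mul_eq_zero.1 (show (2 : F) * 3 = 0 by linear_combination -h8)).resolve_right h3
  have ht := e (1 + t)
  rw [map_add, map_add, map_one, map_one, e t] at ht
  have h0 : τ' t * ((τ' t + 1) * 3) = 0 := by linear_combination -ht
  rcases mul_eq_zero.1 h0 with e0 | e1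
  · exact Or.inl ((map_eq_zero_iff _ τ'.injective).1 e0)
  · have e2 := (mul_eq_zero.1 e1).resolve_right h3
    refine Or.inr (τ'.injective ?_)
    rw [map_one]; linear_combination e2 - h2

end CfsgLib.Known.ChevAut
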