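import Cfsg.Agent.Lib.Known.ChevAut.Out
import Cfsg.Agent.Lib.Lie.Rel.TwistTables

/-!
# The permutations of the nodes induced by automorphisms
-/

set_option autoImplicit false

namespace CfsgLib.Known.ChevAut

open Cfsg.Lie
open CfsgLib.Lie.Chev
open CfsgLib.Known
open Cfsg

/-- candidates for the images of the first `k` nodes under a diagram symmetry -/
def syms (D : ChevalleyDatum) : ℕ → List (List ℕ)
  | 0 => [[]]
  | k + 1 => (syms D k).flatMap fun l => ((List.range D.rank).filter fun j =>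
      (List.range k).all fun i => !(Nat.beq (l.getD i 0) j) && decide (D.bonds (l.getD i 0) j = D.bonds i k)).map
        fun j => l ++ [j]

theorem syms_spec {D : ChevalleyDatum} {π : Equiv.Perm (Fin D.rank)} (hπ : D.IsDiagramSymmetry π) :
    ∀ k ≤ D.rank, ∃ l ∈ syms D k, l.length = k ∧ ∀ i : Fin D.rank, (i : ℕ) < k → l.getD i 0 = (π i : ℕ) := by
  intro k
  induction k with
  | zero => exact fun _ => ⟨[], List.mem_singleton.2 rfl, rfl, fun i hi => by omega⟩
  | succ k ih =>
    intro hk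
    obtain ⟨l, hl, hlen, hval⟩ := ih (by omega)
    refine ⟨l ++ [(π ⟨k, by omega⟩ : ℕ)], ?_, by simp [hlen], fun i hi => ?_⟩
    · refine List.mem_flatMap.2 ⟨l, hl, List.mem_map.2 ⟨_, List.mem_filter.2
        ⟨List.mem_range.2 (π ⟨k, by omega⟩).2, List.all_eq_true.2 fun i hi => ?_⟩, rfl⟩⟩
      rw [List.mem_range] at hi
      have hik : (⟨i, by omega⟩ : Fin D.rank) ≠ ⟨k, by omega⟩ := fun e => by simp [Fin.ext_iff] at e; omega
      rw [hval ⟨i, by omega⟩ hi, Bool.and_eq_true, decide_eq_true_iff]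
      exact ⟨by rw [Bool.not_eq_true', ← Bool.not_eq_true, nat_beq_iff]
                exact fun e => hik (π.injective (Fin.ext e)), hπ _ _ hik⟩
    · rcases Nat.lt_succ_iff_lt_or_eq.1 hi with h | h
      · rw [List.getD_append _ _ _ _ (by omega)]; exact hval i h
      · rw [List.getD_append_right _ _ _ _ (by omega), show (i : ℕ) - l.length = 0 by omega,
          show i = ⟨k, by omega⟩ from Fin.ext h]
        rfl

/-- a permutation of the nodes as the list of images -/
def permList {n : ℕ} (π : Equiv.Perm (Fin n)) : List ℕ := (List.finRange n).map fun i => (π i : ℕ)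

theorem permList_injective {n : ℕ} : Function.Injective (permList (n := n)) := fun π π' h =>
  Equiv.ext fun i => Fin.ext ((List.map_inj_left.1 h) i (List.mem_finRange i))

theorem permList_mem {D : ChevalleyDatum} {π : Equiv.Perm (Fin D.rank)} (hπ : D.IsDiagramSymmetry π)
    {L : List (List ℕ)} (hL : syms D D.rank = L) : permList π ∈ L := by
  obtain ⟨l, hl, hlen, hval⟩ := syms_spec hπ D.rank le_rfl
  rw [← hL]
  convert hl
  refine List.ext_getElem (by simp [permList, hlen]) fun i h1 h2 => ?_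
  simp only [permList, List.getElem_map, List.getElem_finRange, Fin.cast_mk]
  have hi : i < D.rank := by omega
  refine (hval ⟨i, hi⟩ hi).symm.trans ?_
  exact List.getD_eq_getElem _ _ h2

variable {D : ChevalleyDatum} {X : Aux} {F : Type*} [Field F] [Finite F]

/-- the table sends positive roots to positive roots -/
def chkPos (D : ChevalleyDatum) (T : List (ℕ × ℤ × ℕ)) : Bool :=
  (List.range D.nroots).all fun r => !(Nat.ble (half D) r) || Nat.ble (half D) (twAt D T r).1

/-- a table gives a permutation in `gammaSet` -/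
theorem mem_gammaSet_of_table (C : Cert D X) {p : ℕ} {E : List ℕ} (hK : TwField F p E)
    {T : List (ℕ × ℤ × ℕ)} (hT : chkTw D p E T = true) {k P : ℕ} (hk : chkTwPeriod D p T (k + 1) P = true)
    {L : List (ℕ × ℕ × ℕ × List ℤ)} (hL : chkWits D X L = true) (hc : Rel.Connected D) (hP : P ∈ E) (hP0 : 0 < P)
    (hpos : chkPos D T = true) (π : Equiv.Perm (Fin D.rank))
    (hπ : ∀ i : Fin D.rank, twAt D T (D.simple i) = (D.simple (π i), 1, D.graphExp (ringChar F) i (π i))) :
    π ∈ gammaSet C (F := F) := by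
  have : Finite ↥(D.group F) := (chevRel C F).Finite_of_field
  obtain ⟨α, hα⟩ := twEnd_spec C hK hT hk hL hc hP hP0
  have hx : ∀ r t, α ((chevRel C F).xe r t) =
      (chevRel C F).xe (twAt D T r).1 (((twAt D T r).2.1 : F) * t ^ (twAt D T r).2.2) :=
    fun r t => Subtype.ext (Units.ext (hα _ r t rfl))
  simp only [chkPos, List.all_eq_true, List.mem_range, Bool.or_eq_true, Bool.not_eq_true', nat_ble_iff,
    ← Bool.not_eq_true] at hpos
  have hp : ∀ r, r < D.nroots → half D ≤ r → half D ≤ (twAt D T r).1 := fun r hr h =>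
    (hpos r hr).resolve_left (fun e => e h)
  have key : ∀ S : Set (Fin D.nroots), (∀ r : Fin D.nroots, r ∈ S → ∀ h : (twAt D T r).1 < D.nroots,
      (⟨_, h⟩ : Fin D.nroots) ∈ S) →
      ((chevRel C F).US S).map (α : MulAut ↥(D.group F)).toMonoidHom = (chevRel C F).US S := fun S hS => by
    refine Subgroup.eq_of_le_of_card_ge ?_
      (by rw [← Nat.card_congr (((chevRel C F).US S).equivMapOfInjective _ α.injective).toEquiv])
    rw [Subgroup.map_le_iff_le_comap]
    refine (chevRel C F).US_le fun r hr t => ?_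
    show α ((chevRel C F).xe r t) ∈ (chevRel C F).US S
    rw [hx]
    exact (chevRel C F).xe_mem_US (r := ⟨_, (twAt_props hT r.2).1⟩) (hS r hr _) _
  refine ⟨α, ⟨key _ fun r hr h => hp r r.2 hr, key _ fun r hr h => ?_⟩, RingEquiv.refl F, 1, fun i t => ⟨?_, ?_⟩⟩
  · show ¬ half D ≤ (twAt D T r).1
    have hr' : ¬ half D ≤ (r : ℕ) := hr
    have h1 := hp _ (C.neg_lt r.2) ((C.half_le_neg_iff r.2).2 (by omega))
    rw [(twAt_props hT r.2).2.2.2.2, C.half_le_neg_iff h] at h1
    exact not_le.2 h1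
  · rw [hx, hπ]; simp
  · rw [hx, (twAt_props hT (C.simple_lt i.2)).2.2.2.2, hπ]; simp

theorem one_mem_gammaSet (C : Cert D X) : (1 : Equiv.Perm (Fin D.rank)) ∈ gammaSet C (F := F) :=
  ⟨1, one_mem _, RingEquiv.refl F, 1, fun i t => by constructor <;> simp [graphExp_self]⟩

theorem gammaSet_eq_one (C : Cert D X) (h : ∀ π ∈ gammaSet C (F := F), π = 1) :
    (gammaSet C (F := F)).ncard = 1 :=
  Set.ncard_eq_one.2 ⟨1, Set.eq_singleton_iff_unique_mem.2 ⟨one_mem_gammaSet C, h⟩⟩

theorem gammaSet_eq_two (C : Cert D X) {π₀ : Equiv.Perm (Fin D.rank)} (h0 : π₀ ≠ 1) (hm : π₀ ∈ gammaSet C (F := F))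
    (h : ∀ π ∈ gammaSet C (F := F), π = 1 ∨ π = π₀) : (gammaSet C (F := F)).ncard = 2 :=
  Set.ncard_eq_two.2 ⟨1, π₀, h0.symm, Set.eq_of_subset_of_subset (fun π hπ => h π hπ) (by
    rintro π (rfl | rfl)
    · exact one_mem_gammaSet C
    · exact hm)⟩

theorem twField_finite (p : ℕ) [Fact p.Prime] [CharP F p] : TwField F p [1, p] :=
  twField_prime F p fun x => (Finite.injective_iff_surjective.1 (frobenius_inj F p)) x

theorem symsE7 : syms chevE7 chevE7.rank = [[0, 1, 2, 3, 4, 5, 6]] := by decide +kernel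
theorem symsE8 : syms chevE8 chevE8.rank = [[0, 1, 2, 3, 4, 5, 6, 7]] := by decide +kernel
theorem symsE6 : syms chevE6 chevE6.rank = [[0, 1, 2, 3, 4, 5], [5, 1, 4, 3, 2, 0]] := by decide +kernel

theorem eq_one_of_permList {n : ℕ} {π : Equiv.Perm (Fin n)} (h : permList π = permList (1 : Equiv.Perm (Fin n))) :
    π = 1 :=
  permList_injective h

theorem ncard_gamma_E7 : (gammaSet certE7 (F := F)).ncard = 1 :=
  gammaSet_eq_one _ fun π hπ => eq_one_of_permList (by
    rw [List.mem_singleton.1 (permList_mem (gamma_std certE7 ChevDiag.stepsE7 decomposes_E7 hπ).1 symsE7)]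
    decide +kernel)

theorem ncard_gamma_E8 : (gammaSet certE8 (F := F)).ncard = 1 :=
  gammaSet_eq_one _ fun π hπ => eq_one_of_permList (by
    rw [List.mem_singleton.1 (permList_mem (gamma_std certE8 ChevDiag.stepsE8 decomposes_E8 hπ).1 symsE8)]
    decide +kernel)

/-- the graph symmetry of `E₆` -/
def revE6 : Equiv.Perm (Fin chevE6.rank) :=
  Equiv.swap ⟨0, by decide⟩ ⟨5, by decide⟩ * Equiv.swap ⟨2, by decide⟩ ⟨4, by decide⟩

theorem ncard_gamma_E6 : (gammaSet certE6 (F := F)).ncard = 2 := by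
  refine gammaSet_eq_two _ (π₀ := revE6) (by decide +kernel) ?_ fun π hπ => ?_
  · refine mem_gammaSet_of_table certE6 (twField_one F) twOkE6 twPerE6 witE6 (connected_of_mem (by simp))
      (List.mem_singleton.2 rfl) Nat.one_pos (by decide +kernel) _ fun i => ?_
    have h1 : ∀ i : Fin chevE6.rank, twAt chevE6 twTE6 (chevE6.simple i) = (chevE6.simple (revE6 i), 1, 1) ∧
        chevE6.isLong (chevE6.simple i) = false := by decide +kernel
    rw [(h1 i).1, ChevalleyDatum.graphExp, (h1 (revE6 i)).2]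
    simp
  · have hm := permList_mem (gamma_std certE6 ChevDiag.stepsE6 decomposes_E6 hπ).1 symsE6
    simp only [List.mem_cons, List.not_mem_nil, or_false] at hm
    rcases hm with hm | hm
    · exact Or.inl (permList_injective (hm.trans (by decide +kernel)))
    · exact Or.inr (permList_injective (hm.trans (by decide +kernel)))

/-- the exchange of long and short nodes of `F₄` -/
def revF4 : Equiv.Perm (Fin chevF4.rank) :=
  Equiv.swap ⟨0, by decide⟩ ⟨3, by decide⟩ * Equiv.swap ⟨1, by decide⟩ ⟨2, by decide⟩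

theorem char_two_of_F4 {π : Equiv.Perm (Fin chevF4.rank)} (hπ : π ∈ gammaSet certF4 (F := F)) (h : π ≠ 1) :
    π = revF4 ∧ (2 : F) = 0 := by
  obtain ⟨hsym, ψ, σ, hψ⟩ := gamma_std certF4 ChevDiag.stepsF4 decomposes_F4 hπ
  obtain hrev := (perm_F4 π hsym).resolve_left h
  have hr : ∀ i : Fin chevF4.rank, (revF4 i : ℕ) = 3 - (i : ℕ) := by decide +kernel
  obtain rfl : π = revF4 := Equiv.ext fun i => Fin.ext (by rw [hrev, hr])
  obtain ⟨a, b, c, d, -⟩ := cartan_F4
  refine ⟨rfl, two_eq_zero_of_sq (σ ⟨1, by decide⟩) (σ ⟨2, by decide⟩) fun t =>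
    hψ.sigma_pow (k := ⟨2, by decide⟩) (j := ⟨1, by decide⟩) (by omega) c (by rw [hr, hr]; simpa using d) t⟩

theorem ncard_gamma_F4 (p : ℕ) [Fact p.Prime] [CharP F p] :
    (gammaSet certF4 (F := F)).ncard = Nat.gcd 2 p := by
  have hp : p.Prime := Fact.out
  rcases eq_or_ne p 2 with rfl | h2
  · rw [Nat.gcd_self]
    refine gammaSet_eq_two _ (π₀ := revF4) (by decide +kernel) ?_ fun π hπ => ?_
    · refine mem_gammaSet_of_table certF4 (twField_finite 2) twOkF4 twPerF4 witF4 (connected_of_mem (by simp))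
        (by decide) Nat.two_pos (by decide +kernel) _ fun i => ?_
      have h1 : ∀ i : Fin chevF4.rank, twAt chevF4 twTF4 (chevF4.simple i) =
          (chevF4.simple (revF4 i), 1, chevF4.graphExp 2 i (revF4 i)) := by decide +kernel
      rw [h1, ringChar.eq F 2]
    · exact (em (π = 1)).imp id fun h => (char_two_of_F4 hπ h).1
  · rw [Nat.coprime_iff_gcd_eq_one.1 ((Nat.coprime_primes Nat.prime_two hp).2 (Ne.symm h2))]
    refine gammaSet_eq_one _ fun π hπ => by_contra fun h => h2 ?_
    have h0 : ((2 : ℕ) : F) = 0 := by exact_mod_cast (char_two_of_F4 hπ h).2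
    exact ((Nat.prime_dvd_prime_iff_eq hp Nat.prime_two).1 ((CharP.cast_eq_zero_iff F p 2).1 h0))

/-- the exchange of the two nodes of `G₂` -/
def revG2 : Equiv.Perm (Fin chevG2.rank) := Equiv.swap ⟨0, by decide⟩ ⟨1, by decide⟩

theorem char_three_of_G2 {π : Equiv.Perm (Fin chevG2.rank)} (hπ : π ∈ gammaSet certG2 (F := F)) (h : π ≠ 1) :
    π = revG2 ∧ (3 : F) = 0 := by
  obtain ⟨-, ψ, σ, hψ⟩ := gamma_std certG2 ChevDiag.stepsG2 decomposes_G2 hπ
  have hrev := (perm_two (show chevG2.rank = 2 by decide +kernel) π).resolve_left h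
  have hr : ∀ i : Fin chevG2.rank, (revG2 i : ℕ) = 1 - (i : ℕ) := by decide +kernel
  obtain rfl : π = revG2 := Equiv.ext fun i => Fin.ext (by rw [hrev, hr])
  obtain ⟨a, b, -, -⟩ := cartan_G2
  refine ⟨rfl, (forall_zero_or_one_of_cube ⟨σ ⟨0, by decide⟩, σ ⟨1, by decide⟩, fun t =>
    hψ.sigma_pow (k := ⟨1, by decide⟩) (j := ⟨0, by decide⟩) (by omega) a (by rw [hr, hr]; simpa using b) t⟩).resolve_right
      fun hF => not_swap_G2_two hF hψ hr⟩

theorem ncard_gamma_G2 (p : ℕ) [Fact p.Prime] [CharP F p] :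
    (gammaSet certG2 (F := F)).ncard = if p = 3 then 2 else 1 := by
  have hp : p.Prime := Fact.out
  split_ifs with h3
  · subst h3
    refine gammaSet_eq_two _ (π₀ := revG2) (by decide +kernel) ?_ fun π hπ => ?_
    · refine mem_gammaSet_of_table certG2 (twField_finite 3) twOkG2 twPerG2 witG2 (connected_of_mem (by simp))
        (by decide) (Nat.succ_pos 2) (by decide +kernel) _ fun i => ?_
      have h1 : ∀ i : Fin chevG2.rank, twAt chevG2 twTG2 (chevG2.simple i) =
          (chevG2.simple (revG2 i), 1, chevG2.graphExp 3 i (revG2 i)) := by decide +kernel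
      rw [h1, ringChar.eq F 3]
    · exact (em (π = 1)).imp id fun h => (char_three_of_G2 hπ h).1
  · refine gammaSet_eq_one _ fun π hπ => by_contra fun h => h3 ?_
    have h0 : ((3 : ℕ) : F) = 0 := by exact_mod_cast (char_three_of_G2 hπ h).2
    exact ((Nat.prime_dvd_prime_iff_eq hp Nat.prime_three).1 ((CharP.cast_eq_zero_iff F p 3).1 h0))

end CfsgLib.Known.ChevAut
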