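import Cfsg.Agent.Lib.Known.ChevAut.Decomp
import Cfsg.Agent.Lib.Lie.Rel.OrderData
import Cfsg.Prelude.Def_KGroupFacts

/-!
# The order of the outer automorphism group of a Chevalley group

`Out` is the group of automorphisms fixing `U` and `U⁻` modulo the torus.
-/

set_option autoImplicit false

namespace CfsgLib.Known.ChevAut

open Cfsg.Lie (ChevalleyDatum)
open CfsgLib.Lie.Chev
open CfsgLib.Known
open Cfsg

variable {D : ChevalleyDatum} {X : Aux} (C : Cert D X) {F : Type*} [Field F]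

/-- automorphisms fixing `U` and `U⁻` -/
def fixing : Subgroup (MulAut ↥(D.group F)) where
  carrier := {φ | (chevRel C F).UP.map φ.toMonoidHom = (chevRel C F).UP ∧
    (chevRel C F).UN.map φ.toMonoidHom = (chevRel C F).UN}
  one_mem' := ⟨Subgroup.map_id _, Subgroup.map_id _⟩
  mul_mem' {φ ψ} h h' := by
    have hc : (φ * ψ).toMonoidHom = φ.toMonoidHom.comp ψ.toMonoidHom := rfl
    refine ⟨?_, ?_⟩ <;> rw [hc, ← Subgroup.map_map]
    · rw [h'.1, h.1]
    · rw [h'.2, h.2]
  inv_mem' {φ} h := by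
    have hc : φ⁻¹.toMonoidHom.comp φ.toMonoidHom = MonoidHom.id _ := MonoidHom.ext φ.symm_apply_apply
    refine ⟨?_, ?_⟩
    · conv_lhs => rw [← h.1]
      rw [Subgroup.map_map, hc, Subgroup.map_id]
    · conv_lhs => rw [← h.2]
      rw [Subgroup.map_map, hc, Subgroup.map_id]

/-- `x_{±i}(t) ↦ x_{±π i}((c_{π i} τ(t)^e))` -/
def Act (φ : MulAut ↥(D.group F)) (π : Equiv.Perm (Fin D.rank)) (τ : F ≃+* F) (c : Fin D.rank → Fˣ) : Prop :=
  ∀ (i : Fin D.rank) (t : F),
    φ ((chevRel C F).xe (D.simple i) t) =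
      (chevRel C F).xe (D.simple (π i)) ((c (π i) : F) * τ t ^ D.graphExp (ringChar F) i (π i)) ∧
    φ ((chevRel C F).xe (D.neg (D.simple i)) t) =
      (chevRel C F).xe (D.neg (D.simple (π i))) ((c (π i) : F)⁻¹ * τ t ^ D.graphExp (ringChar F) i (π i))

theorem graphExp_self (p i : ℕ) : D.graphExp p i i = 1 := by
  unfold ChevalleyDatum.graphExp; cases D.isLong (D.simple i) <;> simp

variable {C}

theorem Act.unique {φ : MulAut ↥(D.group F)} {π π' : Equiv.Perm (Fin D.rank)} {τ τ' : F ≃+* F}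
    {c c' : Fin D.rank → Fˣ} (h : Act C φ π τ c) (h' : Act C φ π' τ' c') : π = π' ∧ τ = τ' ∧ c = c' := by
  have key : ∀ i : Fin D.rank, π i = π' i ∧ c (π i) = c' (π i) := fun i => by
    have e := (h i 1).1.symm.trans (h' i 1).1
    rw [map_one, one_pow, mul_one, map_one, one_pow, mul_one] at e
    have e1 := (chevRel C F).sroot_injective ((chevRel C F).xe_inj_root (r := (chevRel C F).sroot (π i))
      (r' := (chevRel C F).sroot (π' i)) (c (π i)).ne_zero e)
    refine ⟨e1, Units.ext ?_⟩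
    rw [← e1] at e
    exact (chevRel C F).xe_inj_param (r := (chevRel C F).sroot (π i)) e
  have hπ : π = π' := Equiv.ext fun i => (key i).1
  subst hπ
  have hc : c = c' := funext fun j => by simpa using (key (π.symm j)).2
  subst hc
  refine ⟨rfl, RingEquiv.ext fun t => ?_, rfl⟩
  have he : ∀ i : Fin D.rank, D.graphExp (ringChar F) i (π i) = 1 → τ t = τ' t := fun i hi => by
    have e := (h i t).1.symm.trans (h' i t).1
    have e2 := mul_left_cancel₀ (c (π i)).ne_zero ((chevRel C F).xe_inj_param (r := (chevRel C F).sroot (π i)) e)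
    rwa [hi, pow_one, pow_one] at e2
  obtain ⟨i⟩ : Nonempty (Fin D.rank) := ⟨⟨0, C.rank_pos⟩⟩
  rcases hb : D.isLong (D.simple (π i)) with _ | _
  · exact he i (by rw [ChevalleyDatum.graphExp, hb]; simp)
  · exact he (π i) (by rw [ChevalleyDatum.graphExp, hb]; simp)

variable (C) (hS : ChevDiag.chkSteps D = true)
include hS

theorem diagAut_mem_fixing [Finite F] {χ : ℕ → Fˣ} (hχ : D.IsRootCharacter χ) :
    diagAut C hS hχ ∈ fixing C := by
  have : Finite ↥(D.group F) := (chevRel C F).Finite_of_field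
  have key : ∀ S : Set (Fin D.nroots),
      ((chevRel C F).US S).map (diagAut C hS hχ).toMonoidHom = (chevRel C F).US S := fun S => by
    refine Subgroup.eq_of_le_of_card_ge ?_
      (by rw [← Nat.card_congr (((chevRel C F).US S).equivMapOfInjective _ (diagAut C hS hχ).injective).toEquiv])
    rw [Subgroup.map_le_iff_le_comap]
    refine (chevRel C F).US_le fun r hr t => ?_
    show diagAut C hS hχ ((chevRel C F).xe r t) ∈ (chevRel C F).US S
    rw [diagAut_xe C hS hχ r.2]
    exact (chevRel C F).xe_mem_US hr _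
  exact ⟨key _, key _⟩

omit hS in
theorem fieldAut_mem_fixing [Finite F] (τ : F ≃+* F) :
    (fieldAut D τ : MulAut ↥(D.group F)) ∈ fixing C := by
  have : Finite ↥(D.group F) := (chevRel C F).Finite_of_field
  have key : ∀ S : Set (Fin D.nroots),
      ((chevRel C F).US S).map (fieldAut D τ : MulAut ↥(D.group F)).toMonoidHom = (chevRel C F).US S := fun S => by
    refine Subgroup.eq_of_le_of_card_ge ?_
      (by rw [← Nat.card_congr (((chevRel C F).US S).equivMapOfInjective _ (fieldAut D τ).injective).toEquiv])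
    rintro _ ⟨g, hg, rfl⟩
    exact ChevFixed.fieldAut_mem_US C τ S hg
  exact ⟨key _, key _⟩

theorem Act.diag_comp {φ : MulAut ↥(D.group F)} {π : Equiv.Perm (Fin D.rank)} {τ : F ≃+* F}
    {c : Fin D.rank → Fˣ} (h : Act C φ π τ c) (a : Fin D.rank → Fˣ) :
    Act C (diagAut C hS (isRootCharacter_chi C a) * φ) π τ (a * c) := fun i t => by
  have hlt := C.simple_lt (π i).2
  constructor
  · rw [MulAut.mul_apply, (h i t).1, diagAut_xe C hS _ hlt, chi_simple C, Pi.mul_apply, Units.val_mul, mul_assoc]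
  · rw [MulAut.mul_apply, (h i t).2, diagAut_xe C hS _ (C.neg_lt hlt), (isRootCharacter_chi C a).1 _ hlt,
      chi_simple C, Pi.mul_apply, Units.val_mul, mul_inv, Units.val_inv_eq_inv_val, mul_assoc]

theorem act_diagAut (a : Fin D.rank → Fˣ) :
    Act C (diagAut C hS (isRootCharacter_chi C a)) 1 (RingEquiv.refl F) a := by
  have h : Act C (1 : MulAut ↥(D.group F)) 1 (RingEquiv.refl F) 1 := fun i t => by
    constructor <;> simp [graphExp_self]
  simpa using h.diag_comp C hS a

omit hS in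
theorem Act.comp_field {φ : MulAut ↥(D.group F)} {π : Equiv.Perm (Fin D.rank)} {τ : F ≃+* F}
    {c : Fin D.rank → Fˣ} (h : Act C φ π τ c) (γ : F ≃+* F) :
    Act C (φ * fieldAut D γ) π (γ.trans τ) c := fun i t => by
  constructor <;> rw [MulAut.mul_apply, ChevFixed.fieldAut_xe C]
  · exact (h i _).1
  · exact (h i _).2

/-- the permutations of the nodes induced by automorphisms -/
def gammaSet : Set (Equiv.Perm (Fin D.rank)) :=
  {π | ∃ φ ∈ fixing C (F := F), ∃ τ c, Act C φ π τ c}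

variable [Finite F]

theorem exists_act (hT : Decomposes D C F) {φ : MulAut ↥(D.group F)} (hφ : φ ∈ fixing C) :
    ∃ π τ c, Act C φ π τ c ∧ D.IsDiagramSymmetry π ∧
      ∃ (ψ : MulAut ↥(D.group F)) (σ : Fin D.rank → F ≃+* F), Std (chevRel C F) ψ π σ := by
  obtain ⟨hU', hchk, -⟩ := hT
  obtain ⟨a, π, σ, ψ, rfl, hψ⟩ := exists_diag_std C hS hchk hφ.1 hφ.2
  obtain ⟨hsym, τ, hτ⟩ := hU' ψ π σ hψ
  refine ⟨π, τ, a, ?_, hsym, ψ, σ, hψ⟩
  have h : Act C ψ π τ 1 := fun i t => by
    rw [(hψ i t).1, (hψ i t).2, hτ]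
    simp
  simpa using h.diag_comp C hS a

theorem gamma_std (hT : Decomposes D C F) {π : Equiv.Perm (Fin D.rank)} (hπ : π ∈ gammaSet C (F := F)) :
    D.IsDiagramSymmetry π ∧ ∃ (ψ : MulAut ↥(D.group F)) (σ : Fin D.rank → F ≃+* F), Std (chevRel C F) ψ π σ := by
  obtain ⟨φ, hφ, τ, c, h⟩ := hπ
  obtain ⟨π', τ', c', h', hsym, hσ⟩ := exists_act C hS hT hφ
  obtain ⟨rfl, -, -⟩ := h.unique h'
  exact ⟨hsym, hσ⟩

/-- counting automorphisms fixing `U` and `U⁻` -/
theorem card_fixing (hT : Decomposes D C F) :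
    Nat.card ↥(fixing C (F := F)) =
      (gammaSet C (F := F)).ncard * Nat.card (F ≃+* F) * Nat.card Fˣ ^ D.rank := by
  classical
  have : Finite ↥(D.group F) := (chevRel C F).Finite_of_field
  have hex : ∀ x : ↥(gammaSet C (F := F)) × (F ≃+* F) × (Fin D.rank → Fˣ),
      ∃ φ : ↥(fixing C (F := F)), Act C φ.1 x.1.1 x.2.1 x.2.2 := by
    rintro ⟨⟨π, φ, hφ, τ, c, h⟩, τ', c'⟩
    have h1 := (h.comp_field C (τ'.trans τ.symm)).diag_comp C hS (c' * c⁻¹)
    rw [inv_mul_cancel_right, show (τ'.trans τ.symm).trans τ = τ' from RingEquiv.ext fun t => τ.apply_symm_apply _] at h1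
    exact ⟨⟨_, mul_mem (diagAut_mem_fixing C hS _) (mul_mem hφ (fieldAut_mem_fixing C _))⟩, h1⟩
  choose f hf using hex
  have hbij : Function.Bijective f := by
    constructor
    · rintro ⟨⟨π, hπ⟩, τ, c⟩ ⟨⟨π', hπ'⟩, τ', c'⟩ e
      have h1 := hf ⟨⟨π, hπ⟩, τ, c⟩
      rw [e] at h1
      obtain ⟨h, h', h''⟩ := h1.unique (hf ⟨⟨π', hπ'⟩, τ', c'⟩)
      simp only at h h' h''
      subst h h' h''
      rfl
    · rintro ⟨φ, hφ⟩
      obtain ⟨π, τ, c, h, -, -⟩ := exists_act C hS hT hφ
      refine ⟨⟨⟨π, φ, hφ, τ, c, h⟩, τ, c⟩, Subtype.ext (aut_ext C fun i t => ?_)⟩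
      have h1 := hf ⟨⟨π, φ, hφ, τ, c, h⟩, τ, c⟩
      exact ⟨(h1 i t).1.trans (h i t).1.symm, (h1 i t).2.trans (h i t).2.symm⟩
  rw [← Nat.card_eq_of_bijective f hbij, Nat.card_prod, Nat.card_prod, Nat.card_coe_set_eq, Nat.card_fun,
    Nat.card_eq_fintype_card (α := Fin D.rank), Fintype.card_fin]
  ring

omit hS in
theorem card_fixing_eq :
    Nat.card ↥(fixing C (F := F)) = Nat.card (Out ↥(D.group F)) * Nat.card ↥(chevRel C F).HS := by
  have : Finite ↥(D.group F) := (chevRel C F).Finite_of_field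
  let q : ↥(fixing C (F := F)) →* Out ↥(D.group F) := (QuotientGroup.mk' (Inn ↥(D.group F))).comp (Subgroup.subtype _)
  have hq : Function.Surjective q := by
    intro z
    obtain ⟨θ, rfl⟩ := QuotientGroup.mk'_surjective _ z
    obtain ⟨x, h1, h2⟩ := exists_fixes C θ
    refine ⟨⟨MulAut.conj x * θ, h1, h2⟩, ?_⟩
    show (QuotientGroup.mk' (Inn ↥(D.group F))) (MulAut.conj x * θ) = _
    rw [map_mul, show QuotientGroup.mk' (Inn ↥(D.group F)) (MulAut.conj x) = 1 from
      (QuotientGroup.eq_one_iff _).2 ⟨x, rfl⟩, one_mul]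
  have hN : ∀ h ∈ (chevRel C F).HS, MulAut.conj h ∈ fixing C (F := F) := by
    intro h hh
    have key : ∀ S : Set (Fin D.nroots),
        ((chevRel C F).US S).map (MulAut.conj h).toMonoidHom = (chevRel C F).US S := fun S => by
      have hN := Subgroup.mem_normalizer_iff.1 ((chevRel C F).HS_le_normalizer_US S hh)
      ext y
      constructor
      · rintro ⟨z, hz, rfl⟩; exact (hN z).1 hz
      · intro hy
        exact ⟨h⁻¹ * y * h, (hN _).2 (by simpa [mul_assoc] using hy), by simp [mul_assoc]⟩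
    exact ⟨key _, key _⟩
  have hk : Nat.card ↥(chevRel C F).HS = Nat.card ↥q.ker := by
    refine Nat.card_eq_of_bijective (fun h => ⟨⟨MulAut.conj (h : ↥(D.group F)), hN _ h.2⟩, ?_⟩) ⟨?_, ?_⟩
    · exact (QuotientGroup.eq_one_iff _).2 ⟨_, rfl⟩
    · intro a b e
      have e' : MulAut.conj (a : ↥(D.group F)) = MulAut.conj (b : ↥(D.group F)) :=
        congrArg (fun x : ↥q.ker => x.1.1) e
      refine Subtype.ext ?_
      have hz : (b : ↥(D.group F))⁻¹ * a ∈ Subgroup.center ↥(D.group F) := by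
        rw [Subgroup.mem_center_iff]
        intro g
        have h := DFunLike.congr_fun e' g
        simp only [MulAut.conj_apply] at h
        calc g * ((b : ↥(D.group F))⁻¹ * a) = (b : ↥(D.group F))⁻¹ * (b * g * (b : ↥(D.group F))⁻¹) * a := by group
          _ = _ := by rw [← h]; group
      rw [center_eq_bot C, Subgroup.mem_bot, inv_mul_eq_one] at hz
      exact hz.symm
    · rintro ⟨⟨φ, hφ⟩, hk⟩
      obtain ⟨x, rfl⟩ := (QuotientGroup.eq_one_iff φ).1 hk
      have hx : x ∈ (chevRel C F).HS := by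
        refine mem_HS_of_normalises _ (fun y => ?_) (fun y => ?_)
        · refine ⟨fun hy => hφ.1.le ⟨y, hy, rfl⟩, fun hy => ?_⟩
          obtain ⟨z, hz, e⟩ := hφ.1.ge hy
          rwa [← (MulAut.conj x).injective e]
        · refine ⟨fun hy => hφ.2.le ⟨y, hy, rfl⟩, fun hy => ?_⟩
          obtain ⟨z, hz, e⟩ := hφ.2.ge hy
          rwa [← (MulAut.conj x).injective e]
      exact ⟨⟨x, hx⟩, rfl⟩
  rw [hk, Subgroup.card_eq_card_quotient_mul_card_subgroup q.ker,
    Nat.card_congr (QuotientGroup.quotientKerEquivOfSurjective q hq).toEquiv]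

/-- the order of the outer automorphism group -/
theorem card_out [Fintype F] (hT : Decomposes D C F) {f d : ℕ} (hf : Nat.card (F ≃+* F) = f)
    (hd : d * Nat.card ↥(chevRel C F).HS = (Fintype.card F - 1) ^ D.rank) :
    Nat.card (Out ↥(D.group F)) = (gammaSet C (F := F)).ncard * f * d := by
  have : Finite ↥(D.group F) := (chevRel C F).Finite_of_field
  have h := card_fixing C hS hT
  rw [card_fixing_eq C, hf, Nat.card_units, Nat.card_eq_fintype_card (α := F), ← hd, ← mul_assoc] at h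
  exact Nat.eq_of_mul_eq_mul_right Nat.card_pos h

end CfsgLib.Known.ChevAut
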