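import Cfsg.Agent.Lib.Known.ChevAut.Borel
import Mathlib.FieldTheory.Finite.Basic
import Cfsg.Prelude.Def_ChevAutomorphisms

/-!
# An automorphism permuting the simple root subgroups is given by field automorphisms
-/

set_option autoImplicit false

namespace CfsgLib.Known.ChevAut

open Cfsg.Lie (ChevalleyDatum)
open CfsgLib.Lie.Chev
open CfsgLib.Lie

variable {D : ChevalleyDatum} {X : Aux} {F : Type*} [Field F] {G : Type*} [Group G] (R : Rel D X F G)

theorem sroot_ne_negF (i : Fin D.rank) : R.sroot i ≠ R.negF (R.sroot i) := (R.negF_ne _).symm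

/-- `x(a) y(b) x(a)` carries `X` into `X'` only if `b = -1/a` -/
theorem eq_neg_inv (i : Fin D.rank) {a b : F} (ha : a ≠ 0)
    (h : ∀ u, ∃ v, (R.xe (D.simple i) a * R.xe (D.neg (D.simple i)) b * R.xe (D.simple i) a) * R.xe (D.simple i) u *
      (R.xe (D.simple i) a * R.xe (D.neg (D.simple i)) b * R.xe (D.simple i) a)⁻¹ =
        R.xe (D.neg (D.simple i)) v) : b = -a⁻¹ := by
  by_contra hb
  obtain ⟨d, hd, rfl⟩ : ∃ d, d ≠ 0 ∧ b = -a⁻¹ + d :=
    ⟨b + a⁻¹, fun e => hb (eq_neg_of_add_eq_zero_left e), by ring⟩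
  obtain ⟨x, hx⟩ : ∃ x : F → G, ∀ t, R.xe (D.simple i) t = x t := ⟨_, fun _ => rfl⟩
  obtain ⟨y, hy⟩ : ∃ y : F → G, ∀ t, R.xe (D.neg (D.simple i)) t = y t := ⟨_, fun _ => rfl⟩
  have hxx : ∀ t u, x t * x u = x (t + u) := fun t u => by simp only [← hx, R.xe_add']
  have hxi : ∀ t, (x t)⁻¹ = x (-t) := fun t => by rw [← hx, ← hx, R.xe_neg]
  have hne : ∀ c : F, R.ne (D.simple i) c = x c * y (-c⁻¹) * x c := fun c => by
    show R.xe _ c * R.xe _ (-c⁻¹) * R.xe _ c = _; rw [hx, hy]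
  have hconj : ∀ (c : F) (t : F), c ≠ 0 → R.ne (D.simple i) c * x t * (R.ne (D.simple i) c)⁻¹ = y (-(t / c ^ 2)) :=
    fun c t hc => by rw [← hx, ← hy]; exact R.ne_conj_xe (R.sroot i) hc t
  simp only [hx, hy] at h
  have hN : ∀ u, ∃ w, y d * x u * (y d)⁻¹ = x w := by
    intro u
    obtain ⟨v, hv⟩ := h u
    refine ⟨-v * a ^ 2, ?_⟩
    have e1 : x a * y (-a⁻¹ + d) * x a = R.ne (D.simple i) a * (x (-a) * y d * x a) := by
      rw [hne, show y (-a⁻¹ + d) = y (-a⁻¹) * y d by simp only [← hy, R.xe_add'], ← hxi a]; group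
    have e2 : y v = R.ne (D.simple i) a * x (-v * a ^ 2) * (R.ne (D.simple i) a)⁻¹ := by
      rw [hconj a _ ha]; congr 1; field_simp
    rw [e1, e2] at hv
    have e3 : x (-a) * y d * x a * x u * (x (-a) * y d * x a)⁻¹ = x (-v * a ^ 2) := by
      have := congrArg (fun g => (R.ne (D.simple i) a)⁻¹ * g * R.ne (D.simple i) a) hv
      simpa [mul_assoc] using this
    have e4 : y d * x u * (y d)⁻¹ = (x (-a))⁻¹ * (x (-a) * y d * x a * x u * (x (-a) * y d * x a)⁻¹) * x (-a) := by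
      have hc : x a * x u * (x a)⁻¹ = x u := by rw [hxi, hxx, hxx]; congr 1; ring
      rw [mul_inv_rev, mul_inv_rev]
      calc y d * x u * (y d)⁻¹ = y d * (x a * x u * (x a)⁻¹) * (y d)⁻¹ := by rw [hc]
        _ = _ := by group
    rw [e4, e3, hxi, _root_.neg_neg, hxx, hxx]; congr 1; ring
  obtain ⟨w, hw⟩ := hN 1
  have h1 := R.xe_neg_eq (D.simple i) (neg_ne_zero.2 hd)
  rw [_root_.neg_neg, hy, hx] at h1
  have hn0 : (-d)⁻¹ ≠ 0 := inv_ne_zero (neg_ne_zero.2 hd)
  have h2 : R.ne (D.simple i) (-d)⁻¹ * x 1 * (R.ne (D.simple i) (-d)⁻¹)⁻¹ = x w := by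
    rw [h1, mul_inv_rev, mul_inv_rev] at hw
    have hc : x (-(-d)⁻¹) * x 1 * (x (-(-d)⁻¹))⁻¹ = x 1 := by rw [hxi, hxx, hxx]; congr 1; ring
    have hc' : (x (-(-d)⁻¹))⁻¹ * x w * x (-(-d)⁻¹) = x w := by rw [hxi, hxx, hxx]; congr 1; ring
    rw [← hc', ← hw]
    conv_lhs => rw [← hc]
    group
  rw [hconj _ _ hn0, ← hx, ← hy] at h2
  exact sroot_ne_negF R i (R.xe_inj_root (r := R.negF (R.sroot i)) (r' := R.sroot i)
    (neg_ne_zero.2 (div_ne_zero one_ne_zero (pow_ne_zero _ hn0))) h2).symm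

variable [Finite F]

/-- `φ` acts on the simple root elements and their negatives by `π` and the field automorphisms `σ` -/
def Std (φ : MulAut G) (π : Equiv.Perm (Fin D.rank)) (σ : Fin D.rank → F ≃+* F) : Prop :=
  ∀ (i : Fin D.rank) (t : F), φ (R.xe (D.simple i) t) = R.xe (D.simple (π i)) (σ i t) ∧
    φ (R.xe (D.neg (D.simple i)) t) = R.xe (D.neg (D.simple (π i))) (σ i t)

theorem exists_std {φ : MulAut G} {π : Equiv.Perm (Fin D.rank)}
    (hX : ∀ i : Fin D.rank, (XS R (D.simple i)).map φ.toMonoidHom = XS R (D.simple (π i)) ∧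
      (XS R (D.neg (D.simple i))).map φ.toMonoidHom = XS R (D.neg (D.simple (π i))))
    (h1 : ∀ i : Fin D.rank, φ (R.xe (D.simple i) 1) = R.xe (D.simple (π i)) 1) :
    ∃ σ, Std R φ π σ := by
  suffices H : ∀ i : Fin D.rank, ∃ s : F ≃+* F, ∀ t, φ (R.xe (D.simple i) t) = R.xe (D.simple (π i)) (s t) ∧
      φ (R.xe (D.neg (D.simple i)) t) = R.xe (D.neg (D.simple (π i))) (s t) by
    choose σ hσ using H
    exact ⟨σ, hσ⟩
  intro i
  choose f hf using fun t => ((hX i).1.le ⟨_, ⟨t, rfl⟩, rfl⟩ : φ (R.xe (D.simple i) t) ∈ XS R (D.simple (π i)))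
  choose g hg using fun t => ((hX i).2.le ⟨_, ⟨t, rfl⟩, rfl⟩ :
    φ (R.xe (D.neg (D.simple i)) t) ∈ XS R (D.neg (D.simple (π i))))
  have fadd : ∀ t u, f (t + u) = f t + f u := fun t u => R.xe_inj_param (r := R.sroot (π i)) (by
    show R.xe (D.simple (π i)) _ = R.xe (D.simple (π i)) _
    rw [← hf, ← R.xe_add' (D.simple i), map_mul, hf, hf, R.xe_add'])
  have gadd : ∀ t u, g (t + u) = g t + g u := fun t u => R.xe_inj_param (r := R.negF (R.sroot (π i))) (by
    show R.xe (D.neg (D.simple (π i))) _ = R.xe (D.neg (D.simple (π i))) _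
    rw [← hg, ← R.xe_add' (D.neg (D.simple i)), map_mul, hg, hg, R.xe_add'])
  have finj : Function.Injective f := fun t u e => R.xe_inj_param (r := R.sroot i)
    (φ.injective (show φ (R.xe (D.simple i) t) = φ (R.xe (D.simple i) u) by rw [hf, hf, e]))
  have fsurj := Finite.injective_iff_surjective.1 finj
  have f0 : f 0 = 0 := by simpa using fadd 0 0
  have fneg : ∀ t, f (-t) = -f t := fun t => eq_neg_of_add_eq_zero_left (by rw [← fadd, neg_add_cancel, f0])
  have f1 : f 1 = 1 := R.xe_inj_param (r := R.sroot (π i)) ((hf 1).symm.trans (h1 i))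
  have fne : ∀ c, c ≠ 0 → f c ≠ 0 := fun c hc e => hc (finj (e.trans f0.symm))
  have hnc : ∀ c : F, c ≠ 0 → φ (R.ne (D.simple i) c) =
      R.xe (D.simple (π i)) (f c) * R.xe (D.neg (D.simple (π i))) (g (-c⁻¹)) * R.xe (D.simple (π i)) (f c) :=
    fun c _ => by show φ (R.xe _ c * R.xe _ (-c⁻¹) * R.xe _ c) = _; rw [map_mul, map_mul, hf, hg]
  have hgi : ∀ c : F, c ≠ 0 → g (-c⁻¹) = -(f c)⁻¹ := fun c hc => by
    refine eq_neg_inv R (π i) (fne c hc) fun u => ?_
    obtain ⟨t, rfl⟩ := fsurj u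
    refine ⟨g (-(t / c ^ 2)), ?_⟩
    rw [← hnc c hc, ← hf, ← hg, ← map_inv, ← map_mul, ← map_mul]
    exact congrArg φ (R.ne_conj_xe (R.sroot i) hc t)
  have hn : ∀ c : F, c ≠ 0 → φ (R.ne (D.simple i) c) = R.ne (D.simple (π i)) (f c) := fun c hc => by
    rw [hnc c hc, hgi c hc]; rfl
  have hconj : ∀ t c : F, c ≠ 0 → g (-(t / c ^ 2)) = -(f t / f c ^ 2) := fun t c hc => by
    refine R.xe_inj_param (r := R.negF (R.sroot (π i))) ?_
    show R.xe (D.neg (D.simple (π i))) _ = _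
    rw [← R.ne_conj_xe (R.sroot (π i)) (fne c hc) (f t)]
    show _ = R.ne (D.simple (π i)) (f c) * R.xe (D.simple (π i)) (f t) * (R.ne (D.simple (π i)) (f c))⁻¹
    rw [← hg, ← hn c hc, ← hf, ← map_inv, ← map_mul, ← map_mul]
    exact congrArg φ (R.ne_conj_xe (R.sroot i) hc t).symm
  have hgf : ∀ t, g t = f t := fun t => by
    have := hconj (-t) 1 one_ne_zero
    rwa [f1, one_pow, div_one, div_one, neg_neg, fneg, neg_neg] at this
  have finv : ∀ c, c ≠ 0 → f c⁻¹ = (f c)⁻¹ := fun c hc => by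
    have := hgi c hc
    rw [hgf, fneg] at this
    exact neg_injective this
  have hsq : ∀ t c, f (t * c ^ 2) = f t * f c ^ 2 := fun t c => by
    rcases eq_or_ne c 0 with rfl | hc
    · simp [f0]
    have := hconj t c⁻¹ (inv_ne_zero hc)
    rw [hgf, fneg, finv c hc, neg_inj, inv_pow, inv_pow, div_inv_eq_mul, div_inv_eq_mul] at this
    exact this
  have hsq1 : ∀ c, f (c ^ 2) = f c ^ 2 := fun c => by simpa [f1] using hsq 1 c
  have fmul : ∀ a b, f (a * b) = f a * f b := by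
    intro a b
    by_cases h2 : ringChar F = 2
    · obtain ⟨c, rfl⟩ := FiniteField.isSquare_of_char_two h2 b
      rw [← sq, hsq, hsq1]
    · have h4 : (2 : F) * 2 ≠ 0 := mul_ne_zero (Ring.two_ne_zero h2) (Ring.two_ne_zero h2)
      refine mul_left_cancel₀ h4 ?_
      have e1 : (a + b) ^ 2 = (a + -b) ^ 2 + (a * b + a * b + (a * b + a * b)) := by ring
      have e2 := congrArg f e1
      rw [fadd, fadd, fadd, hsq1, hsq1, fadd, fadd, fneg] at e2
      linear_combination -e2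
  refine ⟨{ Equiv.ofBijective f ⟨finj, fsurj⟩ with map_mul' := fmul, map_add' := fadd }, fun t => ⟨hf t, ?_⟩⟩
  rw [hg, hgf]; rfl

variable {R} {φ : MulAut G} {π : Equiv.Perm (Fin D.rank)} {σ : Fin D.rank → F ≃+* F}

omit [Finite F] in
theorem Std.map_ne (h : Std R φ π σ) (i : Fin D.rank) (c : F) :
    φ (R.ne (D.simple i) c) = R.ne (D.simple (π i)) (σ i c) := by
  show φ (R.xe _ c * R.xe _ (-c⁻¹) * R.xe _ c) =
    R.xe _ (σ i c) * R.xe _ (-(σ i c)⁻¹) * R.xe _ (σ i c)
  rw [map_mul, map_mul, (h i _).1, (h i _).2, map_neg, map_inv₀]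

omit [Finite F] in
theorem Std.map_he (h : Std R φ π σ) (i : Fin D.rank) (c : F) :
    φ (R.he (D.simple i) c) = R.he (D.simple (π i)) (σ i c) := by
  show φ (R.ne (D.simple i) c * R.ne (D.simple i) (-1)) =
    R.ne (D.simple (π i)) (σ i c) * R.ne (D.simple (π i)) (-1)
  rw [map_mul, h.map_ne, h.map_ne, map_neg, map_one]

omit [Finite F] in
/-- compatibility of the field automorphisms with the Cartan integers -/
theorem Std.cartan_rel (h : Std R φ π σ) (k j : Fin D.rank) {c : F} (hc : c ≠ 0) :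
    σ j c ^ D.cartan k (D.simple j) = σ k c ^ D.cartan (π k) (D.simple (π j)) := by
  have h1 := ((R.isMon_he_simple k hc) (R.sroot j)).2.2.2 1
  have h2 := ((R.isMon_he_simple (π k) ((map_ne_zero_iff _ (σ k).injective).2 hc)) (R.sroot (π j))).2.2.2 1
  rw [Equiv.Perm.one_apply, mul_one] at h1 h2
  have h3 := congrArg φ h1
  change φ (R.he (D.simple k) c * R.xe (D.simple j) 1 * (R.he (D.simple k) c)⁻¹) =
    φ (R.xe (D.simple j) (c ^ D.cartan k (D.simple j))) at h3
  rw [map_mul, map_mul, map_inv, h.map_he, (h j _).1, (h j _).1, map_one, map_zpow₀] at h3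
  exact (R.xe_inj_param (r := R.sroot (π j)) (h2.symm.trans h3)).symm

/-- powers of `w_i w_j` -/
def wIter (X : Aux) (i j : ℕ) : ℕ → ℕ → ℕ
  | 0, s => s
  | m + 1, s => X.w i (X.w j (wIter X i j m s))

/-- the order of `w_i w_j` for a given number of bonds -/
def bondSig (b : ℤ) : List Bool :=
  if b = 0 then [true, false, true, true] else if b = 1 then [false, true, false, true]
  else if b = 2 then [false, false, true, false] else [false, false, false, true]

/-- the bonds are given by the orders of `w_i w_j` -/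
def chkBond (D : ChevalleyDatum) (X : Aux) : Bool :=
  (List.range D.rank).all fun i => (List.range D.rank).all fun j => Nat.beq i j ||
    (decide (D.bonds i j = 0 ∨ D.bonds i j = 1 ∨ D.bonds i j = 2 ∨ D.bonds i j = 3) &&
      [2, 3, 4, 6].map (fun m => (List.range D.nroots).all fun s => Nat.beq (wIter X i j m s) s) ==
        bondSig (D.bonds i j))

omit [Finite F] in
theorem wpow_eq_one (i j : Fin D.rank) (m : ℕ) :
    (R.wperm i * R.wperm j) ^ m = 1 ↔
      (List.range D.nroots).all (fun s => Nat.beq (wIter X i j m s) s) = true := by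
  have key : ∀ (m : ℕ) (s : Fin D.nroots), (((R.wperm i * R.wperm j) ^ m) s : ℕ) = wIter X i j m s := by
    intro m
    induction m with
    | zero => intro s; rfl
    | succ m ih => intro s; rw [pow_succ', Equiv.Perm.mul_apply, Equiv.Perm.mul_apply, R.wperm_apply, R.wperm_apply, ih]; rfl
  simp only [List.all_eq_true, List.mem_range, nat_beq_iff]
  exact ⟨fun e s hs => by rw [← key m ⟨s, hs⟩, e]; rfl, fun e => Equiv.ext fun s => Fin.ext (by rw [key, e _ s.2]; rfl)⟩

variable [Finite G]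

omit [Finite F] in
theorem Std.map_HS (h : Std R φ π σ) : R.HS.map φ.toMonoidHom = R.HS :=
  Subgroup.eq_of_le_of_card_ge (by
    rw [Subgroup.map_le_iff_le_comap]
    refine (Subgroup.closure_le _).2 ?_
    rintro _ ⟨i, c, hc, rfl⟩
    show φ _ ∈ R.HS
    rw [h.map_he]
    exact R.he_mem_HS _ ((map_ne_zero_iff _ (σ i).injective).2 hc))
    (by rw [← Nat.card_congr (R.HS.equivMapOfInjective _ φ.injective).toEquiv])

omit [Finite F] in
theorem Std.isDiagramSymmetry (h : Std R φ π σ) (hchk : chkBond D X = true) : D.IsDiagramSymmetry π := by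
  intro i j hne
  simp only [chkBond, List.all_eq_true, List.mem_range, Bool.or_eq_true, nat_beq_iff, Bool.and_eq_true,
    decide_eq_true_iff, beq_iff_eq] at hchk
  obtain ⟨hb, hs⟩ := (hchk i i.2 j j.2).resolve_left (fun e => hne (Fin.ext e))
  obtain ⟨hb', hs'⟩ := (hchk _ (π i).2 _ (π j).2).resolve_left (fun e => hne (π.injective (Fin.ext e)))
  have key : ∀ m, (R.wperm i * R.wperm j) ^ m = 1 ↔ (R.wperm (π i) * R.wperm (π j)) ^ m = 1 := by
    intro m
    have e : φ (((R.nS i * R.nS j) ^ m : R.NS) : G) = (((R.nS (π i) * R.nS (π j)) ^ m : R.NS) : G) := by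
      simp only [SubgroupClass.coe_pow, Subgroup.coe_mul, map_pow, map_mul]
      congr 2
      · exact (h.map_ne i 1).trans (by rw [map_one]; rfl)
      · exact (h.map_ne j 1).trans (by rw [map_one]; rfl)
    have hiff : ∀ g : R.NS, R.nsPerm g = 1 ↔ (g : G) ∈ R.HS :=
      fun g => ⟨R.mem_HS_of_nsPerm, R.nsPerm_of_mem_HS g⟩
    rw [← R.nsPerm_nS, ← R.nsPerm_nS, ← map_mul, ← map_pow, hiff, ← R.nsPerm_nS, ← R.nsPerm_nS, ← map_mul,
      ← map_pow, hiff, ← e]
    refine ⟨fun hg => h.map_HS.le ⟨_, hg, rfl⟩, fun hg => ?_⟩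
    obtain ⟨y, hy, ey⟩ := h.map_HS.ge hg
    rwa [← φ.injective ey]
  have hsig : bondSig (D.bonds i j) = bondSig (D.bonds (π i) (π j)) := by
    rw [← hs, ← hs']
    refine List.map_congr_left fun m _ => ?_
    rw [Bool.eq_iff_iff, ← wpow_eq_one (R := R), ← wpow_eq_one (R := R)]
    exact key m
  rcases hb with hb | hb | hb | hb <;> rcases hb' with hb' | hb' | hb' | hb' <;>
    rw [hb, hb'] at hsig ⊢ <;> simp [bondSig] at hsig

end CfsgLib.Known.ChevAut
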