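import Cfsg.Agent.Lib.Known.ChevAut.Gamma
import Cfsg.Agent.Lib.Known.AutPSL.Structure

/-!
# The structure of the outer automorphism group
-/

set_option autoImplicit false

namespace CfsgLib.Known.ChevAut

open Cfsg.Lie (ChevalleyDatum)
open CfsgLib.Lie.Chev
open CfsgLib.Known
open Cfsg
open scoped commutatorElement

variable {D : ChevalleyDatum} {X : Aux} {C : Cert D X} {F : Type*} [Field F]

theorem Act.eq {φ ψ : MulAut ↥(D.group F)} {π : Equiv.Perm (Fin D.rank)} {τ : F ≃+* F}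
    {c : Fin D.rank → Fˣ} (h : Act C φ π τ c) (h' : Act C ψ π τ c) : φ = ψ :=
  aut_ext C fun i t => ⟨(h i t).1.trans (h' i t).1.symm, (h i t).2.trans (h' i t).2.symm⟩

theorem Act.field_comp {φ : MulAut ↥(D.group F)} {π : Equiv.Perm (Fin D.rank)} {τ : F ≃+* F}
    {c : Fin D.rank → Fˣ} (h : Act C φ π τ c) (γ : F ≃+* F) :
    Act C ((fieldAut D γ : MulAut ↥(D.group F)) * φ) π (τ.trans γ) (fun j => Units.map (γ : F →* F) (c j)) :=
  fun i t => by
    constructor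
    · rw [MulAut.mul_apply, (h i t).1, ChevFixed.fieldAut_xe C, map_mul, map_pow]; rfl
    · rw [MulAut.mul_apply, (h i t).2, ChevFixed.fieldAut_xe C, map_mul, map_pow, map_inv₀]; rfl

variable (C) (hS : ChevDiag.chkSteps D = true)
include hS

theorem exists_of_isDiagonalAut {φ : MulAut ↥(D.group F)} (h : D.IsDiagonalAut φ) :
    ∃ a, φ = diagAut C hS (isRootCharacter_chi C a) := by
  obtain ⟨χ, hχ, hφ⟩ := h
  refine ⟨fun i => χ (D.simple i), aut_ext C fun i t => ?_⟩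
  have hlt := C.simple_lt i.2
  constructor
  · rw [diag_xe C hS hχ hφ hlt, diagAut_xe C hS _ hlt, chi_simple C]
  · rw [diag_xe C hS hχ hφ (C.neg_lt hlt), diagAut_xe C hS _ (C.neg_lt hlt), hχ.1 _ hlt,
      (isRootCharacter_chi C _).1 _ hlt, chi_simple C]

theorem diag_mul (a b : Fin D.rank → Fˣ) :
    diagAut C hS (isRootCharacter_chi C a) * diagAut C hS (isRootCharacter_chi C b) =
      diagAut C hS (isRootCharacter_chi C (a * b)) :=
  ((act_diagAut C hS b).diag_comp C hS a).eq (act_diagAut C hS (a * b))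

theorem Act.conj_diag {φ : MulAut ↥(D.group F)} {π : Equiv.Perm (Fin D.rank)} {τ : F ≃+* F}
    {c : Fin D.rank → Fˣ} (h : Act C φ π τ c) (a : Fin D.rank → Fˣ) :
    ∃ b, φ * diagAut C hS (isRootCharacter_chi C a) = diagAut C hS (isRootCharacter_chi C b) * φ ∧
      Act C (φ * diagAut C hS (isRootCharacter_chi C a)) π τ (b * c) := by
  obtain ⟨b, hb⟩ : ∃ b : Fin D.rank → Fˣ, ∀ i, b (π i) =
      Units.map (τ : F →* F) (a i) ^ D.graphExp (ringChar F) i (π i) :=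
    ⟨fun j => Units.map (τ : F →* F) (a (π.symm j)) ^ D.graphExp (ringChar F) (π.symm j) j, fun i => by simp⟩
  have h1 : Act C (φ * diagAut C hS (isRootCharacter_chi C a)) π τ (b * c) := fun i t => by
    have hlt := C.simple_lt i.2
    constructor
    · rw [MulAut.mul_apply, diagAut_xe C hS _ hlt, chi_simple C, (h i _).1, map_mul, mul_pow, Pi.mul_apply, hb]
      congr 1; simp; ring
    · rw [MulAut.mul_apply, diagAut_xe C hS _ (C.neg_lt hlt), (isRootCharacter_chi C a).1 _ hlt, chi_simple C,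
        (h i _).2, map_mul, mul_pow, Pi.mul_apply, hb, Units.val_inv_eq_inv_val, map_inv₀]
      congr 1; simp; ring
  exact ⟨b, h1.eq (h.diag_comp C hS b), h1⟩

theorem exists_conj_eq_diag {x : ↥(D.group F)} (hx : x ∈ (chevRel C F).HS) :
    ∃ a, MulAut.conj x = diagAut C hS (isRootCharacter_chi C a) := by
  obtain ⟨a, ha⟩ := (chevRel C F).isMon_of_mem_HS hx
  refine ⟨fun i => Units.mk0 (a ((chevRel C F).sroot i)) (ha _).1, aut_ext C fun i t => ?_⟩
  have hlt := C.simple_lt i.2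
  constructor
  · rw [diagAut_xe C hS _ hlt, chi_simple C]
    exact (ha ((chevRel C F).sroot i)).2.2.2 t
  · rw [diagAut_xe C hS _ (C.neg_lt hlt), (isRootCharacter_chi C _).1 _ hlt, chi_simple C, Units.val_inv_eq_inv_val,
      Units.val_mk0, ← (ha ((chevRel C F).sroot i)).2.1]
    exact (ha ((chevRel C F).negF ((chevRel C F).sroot i))).2.2.2 t

variable [Finite F]

theorem rep (hT : Decomposes D C F) (z : Out ↥(D.group F)) :
    ∃ φ π τ c, φ ∈ fixing C ∧ Act C φ π τ c ∧ QuotientGroup.mk' (Inn ↥(D.group F)) φ = z := by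
  obtain ⟨θ, rfl⟩ := QuotientGroup.mk'_surjective _ z
  obtain ⟨x, h1, h2⟩ := exists_fixes C θ
  obtain ⟨π, τ, c, h, -, -⟩ := exists_act C hS hT (φ := MulAut.conj x * θ) ⟨h1, h2⟩
  refine ⟨_, π, τ, c, ⟨h1, h2⟩, h, ?_⟩
  rw [map_mul, show QuotientGroup.mk' (Inn ↥(D.group F)) (MulAut.conj x) = 1 from
    (QuotientGroup.eq_one_iff _).2 ⟨x, rfl⟩, one_mul]

/-- composition when all exponents are one -/
theorem gamma_mul (hL : ∀ i j : ℕ, D.graphExp (ringChar F) i j = 1) {π π' : Equiv.Perm (Fin D.rank)}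
    (h : π ∈ gammaSet C (F := F)) (h' : π' ∈ gammaSet C (F := F)) : π * π' ∈ gammaSet C (F := F) := by
  obtain ⟨φ, hφ, τ, c, hA⟩ := h
  obtain ⟨ψ, hψ, τ', c', hB⟩ := h'
  have h1 := hB.diag_comp C hS c'⁻¹
  rw [inv_mul_cancel] at h1
  refine ⟨_, mul_mem hφ (mul_mem (diagAut_mem_fixing C hS (isRootCharacter_chi C c'⁻¹)) hψ), τ'.trans τ, c,
    fun i t => ?_⟩
  constructor
  · rw [MulAut.mul_apply, (h1 i t).1, hL, hL, (hA (π' i) _).1, hL]; simp
  · rw [MulAut.mul_apply, (h1 i t).2, hL, hL, (hA (π' i) _).2, hL]; simp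

theorem out_structure (hT : Decomposes D C F)
    (hgal : IsCyclic (F ≃+* F))
    (Dbar Fbar : Subgroup (Out ↥(D.group F)))
    (hDbar : Dbar = (Subgroup.closure {φ : MulAut ↥(D.group F) | D.IsDiagonalAut φ}).map
      (QuotientGroup.mk' (Inn ↥(D.group F))))
    (hFbar : Fbar = (Subgroup.closure {φ : MulAut ↥(D.group F) | D.IsFieldAut φ}).map
      (QuotientGroup.mk' (Inn ↥(D.group F)))) :
    Dbar.Normal ∧ IsMulCommutative ↥Dbar ∧ IsCyclic ↥Fbar ∧ (Dbar ⊔ Fbar).Normal ∧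
      (Dbar ⊔ Fbar).index = (gammaSet C (F := F)).ncard ∧
      ((∃ π ∈ gammaSet C (F := F), ∃ π' ∈ gammaSet C (F := F), π * π' ≠ π' * π) →
        (∀ i j : ℕ, D.graphExp (ringChar F) i j = 1) →
        ¬ commutator (Out ↥(D.group F)) ≤ Dbar ⊔ Fbar) := by
  obtain ⟨q, hq⟩ : ∃ q, q = QuotientGroup.mk' (Inn ↥(D.group F)) := ⟨_, rfl⟩
  rw [← hq] at hDbar hFbar
  obtain ⟨dd, hdd⟩ : ∃ dd : (Fin D.rank → Fˣ) →* MulAut ↥(D.group F),
      ∀ a, dd a = diagAut C hS (isRootCharacter_chi C a) :=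
    ⟨MonoidHom.mk' (fun a => diagAut C hS (isRootCharacter_chi C a)) fun a b => (diag_mul C hS a b).symm,
      fun _ => rfl⟩
  obtain ⟨fa, hfa⟩ : ∃ fa : (F ≃+* F) →* MulAut ↥(D.group F), ∀ γ, fa γ = fieldAut D γ :=
    ⟨MonoidHom.mk' (fun γ => (fieldAut D γ : MulAut ↥(D.group F))) fun a b => aut_ext C fun i t => by
      constructor <;> simp only [MulAut.mul_apply, ChevFixed.fieldAut_xe C] <;> rfl, fun _ => rfl⟩
  have hD : Dbar = (q.comp dd).range := by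
    rw [hDbar, ← MonoidHom.map_range]
    congr 1
    refine le_antisymm ((Subgroup.closure_le _).2 fun φ hφ => ?_) ?_
    · obtain ⟨a, rfl⟩ := exists_of_isDiagonalAut C hS hφ
      exact ⟨a, hdd a⟩
    · rintro _ ⟨a, rfl⟩
      exact Subgroup.subset_closure (by rw [hdd]; exact isDiagonalAut_diagAut C hS _)
  have hF : Fbar = (q.comp fa).range := by
    rw [hFbar, ← MonoidHom.map_range]
    congr 1
    refine le_antisymm ((Subgroup.closure_le _).2 fun φ hφ => ?_) ?_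
    · obtain ⟨σ, hσ⟩ := hφ
      refine ⟨σ, (hfa σ).trans (aut_ext C fun i t => ?_)⟩
      refine ⟨?_, ?_⟩ <;> rw [ChevFixed.fieldAut_xe C]
      · exact Subtype.ext (Units.ext (hσ _ _ t (C.simple_lt i.2) rfl).symm)
      · exact Subtype.ext (Units.ext (hσ _ _ t (C.neg_lt (C.simple_lt i.2)) rfl).symm)
    · rintro _ ⟨γ, rfl⟩
      exact Subgroup.subset_closure (by rw [hfa]; exact ⟨γ, fun g r t _ e => fieldAut_spec D γ g r t e⟩)
  have hconjD : ∀ (φ : MulAut ↥(D.group F)) π τ c, Act C φ π τ c → ∀ a, q φ * q (dd a) * (q φ)⁻¹ ∈ Dbar := by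
    intro φ π τ c h a
    obtain ⟨b, hb, -⟩ := h.conj_diag C hS a
    rw [hD]
    refine ⟨b, ?_⟩
    rw [MonoidHom.comp_apply, ← map_inv, ← map_mul, ← map_mul, hdd, hdd, hb, mul_inv_cancel_right]
  have hDn : Dbar.Normal := by
    refine ⟨fun z hz g => ?_⟩
    obtain ⟨a, rfl⟩ : z ∈ (q.comp dd).range := hD ▸ hz
    obtain ⟨φ, π, τ, c, -, h, rfl⟩ := rep C hS hT g
    rw [← hq]
    exact hconjD φ π τ c h a
  have hMn : (Dbar ⊔ Fbar).Normal := by
    have hgen : ∀ g z, z ∈ Dbar ⊔ Fbar → g * z * g⁻¹ ∈ Dbar ⊔ Fbar := by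
      intro g z hz
      obtain ⟨d, hd, f, hf, rfl⟩ := Subgroup.mem_sup_of_normal_left (s := Dbar).1 hz
      rw [show g * (d * f) * g⁻¹ = (g * d * g⁻¹) * (g * f * g⁻¹) by group]
      refine mul_mem (Subgroup.mem_sup_left (hDn.conj_mem d hd g)) ?_
      obtain ⟨γ, rfl⟩ : f ∈ (q.comp fa).range := hF ▸ hf
      obtain ⟨φ, π, τ, c, -, h, rfl⟩ := rep C hS hT g
      rw [← hq, MonoidHom.comp_apply, ← map_inv, ← map_mul, ← map_mul]
      obtain ⟨γ', hγ'⟩ : ∃ γ' : F ≃+* F, γ' = (τ.symm.trans γ).trans τ := ⟨_, rfl⟩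
      obtain ⟨c', hc'⟩ : ∃ c' : Fin D.rank → Fˣ, c' = fun j => Units.map (γ' : F →* F) (c j) := ⟨_, rfl⟩
      have h1 := (h.field_comp γ').diag_comp C hS (c * c'⁻¹)
      rw [← hc', inv_mul_cancel_right,
        show τ.trans γ' = γ.trans τ from RingEquiv.ext fun t => by simp [hγ']] at h1
      rw [hfa, (h.comp_field C γ).eq h1, ← mul_assoc, mul_inv_cancel_right, map_mul, ← hdd, ← hfa]
      exact mul_mem (Subgroup.mem_sup_left (hD ▸ ⟨_, rfl⟩)) (Subgroup.mem_sup_right (hF ▸ ⟨_, rfl⟩))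
    exact ⟨fun z hz g => hgen g z hz⟩
  -- the permutation is constant on cosets
  have hinj : ∀ {φ ψ : MulAut ↥(D.group F)} {π π' τ τ' c c'}, φ ∈ fixing C → ψ ∈ fixing C →
      Act C φ π τ c → Act C ψ π' τ' c' → (q φ)⁻¹ * q ψ ∈ Dbar ⊔ Fbar → π = π' := by
    intro φ ψ π π' τ τ' c c' hφ hψ h h' hm
    obtain ⟨d, hd, f, hf, e⟩ := Subgroup.mem_sup_of_normal_left (s := Dbar).1 hm
    obtain ⟨a, rfl⟩ : d ∈ (q.comp dd).range := hD ▸ hd
    obtain ⟨γ, rfl⟩ : f ∈ (q.comp fa).range := hF ▸ hf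
    have e' : q (φ * dd a * fa γ) = q ψ := by
      rw [map_mul, map_mul, mul_assoc]
      exact (congrArg (q φ * ·) e).trans (mul_inv_cancel_left _ _)
    rw [hq, QuotientGroup.mk'_apply, QuotientGroup.mk'_apply, QuotientGroup.eq] at e'
    obtain ⟨x, hx⟩ := e'
    obtain ⟨b, -, h1⟩ := h.conj_diag C hS a
    rw [← hdd] at h1
    have h2 := h1.comp_field C γ
    rw [← hfa] at h2
    have hfix : φ * dd a * fa γ ∈ fixing C :=
      mul_mem (mul_mem hφ (hdd a ▸ diagAut_mem_fixing C hS _)) (hfa γ ▸ fieldAut_mem_fixing C γ)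
    have hxf : MulAut.conj x ∈ fixing C := hx ▸ mul_mem (inv_mem hfix) hψ
    have hxH : x ∈ (chevRel C F).HS := by
      refine mem_HS_of_normalises _ (fun y => ?_) (fun y => ?_)
      · refine ⟨fun hy => hxf.1.le ⟨y, hy, rfl⟩, fun hy => ?_⟩
        obtain ⟨z, hz, e⟩ := hxf.1.ge hy
        rwa [← (MulAut.conj x).injective e]
      · refine ⟨fun hy => hxf.2.le ⟨y, hy, rfl⟩, fun hy => ?_⟩
        obtain ⟨z, hz, e⟩ := hxf.2.ge hy
        rwa [← (MulAut.conj x).injective e]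
    obtain ⟨a', ha'⟩ := exists_conj_eq_diag C hS hxH
    obtain ⟨b', -, h3⟩ := h2.conj_diag C hS a'
    rw [← ha', hx, mul_inv_cancel_left] at h3
    exact (h3.unique h').1
  have hcls : ∀ {φ ψ : MulAut ↥(D.group F)} {π τ τ' c c'},
      Act C φ π τ c → Act C ψ π τ' c' → (q φ)⁻¹ * q ψ ∈ Dbar ⊔ Fbar := by
    intro φ ψ π τ τ' c c' h h'
    have h1 := (h.comp_field C (τ'.trans τ.symm)).diag_comp C hS (c' * c⁻¹)
    rw [inv_mul_cancel_right,
      show (τ'.trans τ.symm).trans τ = τ' from RingEquiv.ext fun t => τ.apply_symm_apply _] at h1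
    rw [← h1.eq h', map_mul, map_mul,
      show (q φ)⁻¹ * (q (diagAut C hS (isRootCharacter_chi C (c' * c⁻¹))) * (q φ * q (fieldAut D (τ'.trans τ.symm)))) =
        ((q φ)⁻¹ * q (diagAut C hS (isRootCharacter_chi C (c' * c⁻¹))) * (q φ)⁻¹⁻¹) * q (fieldAut D (τ'.trans τ.symm)) by group,
      ← hdd, ← hfa]
    exact mul_mem (Subgroup.mem_sup_left (hDn.conj_mem _ (hD ▸ ⟨_, rfl⟩) _)) (Subgroup.mem_sup_right (hF ▸ ⟨_, rfl⟩))
  refine ⟨hDn, ?_, ?_, hMn, ?_, ?_⟩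
  · rw [hD]; infer_instance
  · rw [hF]
    exact isCyclic_of_surjective (q.comp fa).rangeRestrict (q.comp fa).rangeRestrict_surjective
  · choose g hg τ c hA using fun π : ↥(gammaSet C (F := F)) => π.2
    rw [Subgroup.index, ← Nat.card_coe_set_eq]
    refine (Nat.card_eq_of_bijective (fun π => (QuotientGroup.mk (q (g π)) : _ ⧸ (Dbar ⊔ Fbar))) ⟨?_, ?_⟩).symm
    · intro π π' e
      exact Subtype.ext (hinj (hg π) (hg π') (hA π) (hA π') (QuotientGroup.eq.1 e))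
    · intro z
      obtain ⟨z, rfl⟩ := QuotientGroup.mk_surjective z
      obtain ⟨φ, π, τ', c', hφ, h, rfl⟩ := rep C hS hT z
      refine ⟨⟨π, φ, hφ, τ', c', h⟩, QuotientGroup.eq.2 ?_⟩
      rw [← hq]
      exact hcls (hA ⟨π, φ, hφ, τ', c', h⟩) h
  · rintro ⟨π, hπ, π', hπ', hne⟩ hL hle
    obtain ⟨φ, hφ, τ, c, hA⟩ := hπ
    obtain ⟨ψ, hψ, τ', c', hB⟩ := hπ'
    refine hne ?_
    have key : ∀ {φ ψ : MulAut ↥(D.group F)} {π π' τ τ' c c'}, Act C φ π τ c → Act C ψ π' τ' c' →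
        ∃ c'', Act C (φ * ψ) (π * π') (τ'.trans τ) c'' := by
      intro φ ψ π π' τ τ' c c' hA hB
      refine ⟨fun j => c j * Units.map (τ : F →* F) (c' (π.symm j)), fun i t => ⟨?_, ?_⟩⟩
      · rw [MulAut.mul_apply, (hB i t).1, (hA (π' i) _).1, hL, hL, hL]; congr 1; simp; ring
      · rw [MulAut.mul_apply, (hB i t).2, (hA (π' i) _).2, hL, hL, hL]; congr 1; simp; ring
    obtain ⟨_, h1⟩ := key hA hB
    obtain ⟨_, h2⟩ := key hB hA
    refine hinj (mul_mem hφ hψ) (mul_mem hψ hφ) h1 h2 (hle ?_)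
    rw [map_mul, map_mul, show (q φ * q ψ)⁻¹ * (q ψ * q φ) = ⁅(q ψ)⁻¹, (q φ)⁻¹⁆ by
      rw [commutatorElement_def]; group]
    exact Subgroup.commutator_mem_commutator trivial trivial

end CfsgLib.Known.ChevAut
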